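import Groth.Agent.H27Perf.Ring

/-!
# Perfections of schemes: the affine picture
-/

set_option autoImplicit false
universe u

open CategoryTheory AlgebraicGeometry Limits FrobSch

namespace Groth.Agent.H27Perf

variable {p : ℕ} [hp : Fact p.Prime]

theorem natCast_eq_zero_of_isCharP_Spec {S : CommRingCat.{u}} [IsCharP (Spec S) p] :
    (p : S) = 0 :=
  natCast_map (p := p) (Scheme.ΓSpecIso S).hom.hom (natCast_eq_zero_app (Spec S) p ⊤)

theorem isCharP_Spec_of_natCast {S : CommRingCat.{u}} (h : (p : S) = 0) : IsCharP (Spec S) p :=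
  ⟨natCast_map (p := p) (Scheme.ΓSpecIso S).inv.hom h⟩

theorem isIso_of_bijective' {R S : CommRingCat.{u}} (f : R ⟶ S) (hf : Function.Bijective f.hom) :
    IsIso f :=
  (ConcreteCategory.isIso_iff_bijective f).mpr hf

theorem isIso_of_isIso_SpecMap {R S : CommRingCat.{u}} (f : R ⟶ S) [IsIso (Spec.map f)] :
    IsIso f := by
  have h1 : IsIso (Scheme.Spec.map f.op) := inferInstanceAs (IsIso (Spec.map f))
  have h2 : IsIso f.op := isIso_of_fully_faithful Scheme.Spec f.op
  exact isIso_of_op f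

theorem perfR_sections {X : Scheme.{u}} [IsCharP X p] (hX : IsPerfect X p) (U : X.Opens) :
    PerfR p Γ(X, U) := by
  refine ⟨natCast_eq_zero_app X p U, ?_⟩
  have : IsIso ((frob X p).app U) := inferInstance
  exact (ConcreteCategory.isIso_iff_bijective ((frob X p).app U)).mp this

theorem isPerfect_of_isOpenImmersion {U X : Scheme.{u}} (j : U ⟶ X) [IsOpenImmersion j]
    [IsCharP X p] [IsCharP U p] (hX : IsPerfect X p) : IsPerfect U p := by
  have h1 : IsOpenImmersion (frob U p ≫ j) := by rw [frob_comp]; infer_instance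
  have h2 : IsOpenImmersion (frob U p) := IsOpenImmersion.of_comp _ j
  have : Surjective (frob U p) := ⟨fun x => ⟨x, frob_apply U p x⟩⟩
  exact (isIso_iff_isOpenImmersion_and_surjective (f := frob U p)).mpr ⟨h2, this⟩

theorem isPerfect_of_isIso {U X : Scheme.{u}} (j : U ⟶ X) [IsIso j]
    [IsCharP X p] [IsCharP U p] (hX : IsPerfect X p) : IsPerfect U p :=
  isPerfect_of_isOpenImmersion j hX

theorem frob_Spec (S : CommRingCat.{u}) [IsCharP (Spec S) p] :
    frob (Spec S) p =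
      Spec.map (CommRingCat.ofHom (powHom p S natCast_eq_zero_of_isCharP_Spec)) := by
  refine ext_of_isAffine ?_
  rw [← cancel_epi (Scheme.ΓSpecIso S).inv, ← Scheme.ΓSpecIso_inv_naturality]
  ext s
  change ((Scheme.ΓSpecIso S).inv s) ^ p = (Scheme.ΓSpecIso S).inv (s ^ p)
  rw [map_pow]

theorem isPerfect_Spec {S : CommRingCat.{u}} [IsCharP (Spec S) p] (hS : PerfR p S) :
    IsPerfect (Spec S) p := by
  have h1 : IsIso (CommRingCat.ofHom (powHom p S natCast_eq_zero_of_isCharP_Spec)) :=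
    isIso_of_bijective' _ hS.2
  rw [IsPerfect, frob_Spec]
  infer_instance

variable {XP X : Scheme.{u}} {π : XP ⟶ X} [IsCharP XP p]

theorem IsPerfection.ext {Y : Scheme.{u}} [IsCharP Y p] (h : IsPerfection π p)
    (hY : IsPerfect Y p) {g₁ g₂ : Y ⟶ XP} (e : g₁ ≫ π = g₂ ≫ π) : g₁ = g₂ :=
  (h.2 Y hY).1 e

theorem IsPerfection.exists_lift {Y : Scheme.{u}} [IsCharP Y p] (h : IsPerfection π p)
    (hY : IsPerfect Y p) (g : Y ⟶ X) : ∃ l : Y ⟶ XP, l ≫ π = g :=
  (h.2 Y hY).2 g

variable [IsCharP X p]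

/-- Over an affine open the perfection is the spectrum of a perfect closure. -/
theorem isAffineOpen_preimage_and_pRad (h : IsPerfection π p) {U : X.Opens}
    (hU : IsAffineOpen U) : IsAffineOpen (π ⁻¹ᵁ U) ∧ PRad p (π.app U).hom := by
  have hXP : IsPerfect XP p := h.1
  obtain ⟨S, _, φ, hS, hφ, huniv⟩ := exists_perfClosure (p := p) Γ(X, U)
    (natCast_eq_zero_app X p U)
  obtain ⟨l, hl⟩ := huniv Γ(XP, π ⁻¹ᵁ U) (perfR_sections hXP _) (π.app U).hom
  let φ' : Γ(X, U) ⟶ CommRingCat.of S := CommRingCat.ofHom φ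
  let l' : CommRingCat.of S ⟶ Γ(XP, π ⁻¹ᵁ U) := CommRingCat.ofHom l
  have hl' : φ' ≫ l' = π.app U := CommRingCat.hom_ext hl
  have : IsCharP (Spec (CommRingCat.of S)) p := isCharP_Spec_of_natCast hS.1
  have : IsCharP (π ⁻¹ᵁ U : XP.Opens).toScheme p := IsCharP.of_hom (π ⁻¹ᵁ U).ι p
  have hV : IsPerfect (π ⁻¹ᵁ U : XP.Opens).toScheme p :=
    isPerfect_of_isOpenImmersion (π ⁻¹ᵁ U).ι hXP
  let c : Spec (CommRingCat.of S) ⟶ X := Spec.map φ' ≫ hU.fromSpec
  obtain ⟨b, hb⟩ := IsPerfection.exists_lift h (isPerfect_Spec hS) c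
  let a : (π ⁻¹ᵁ U : XP.Opens).toScheme ⟶ Spec (CommRingCat.of S) :=
    (π ⁻¹ᵁ U).toSpecΓ ≫ Spec.map l'
  have hrange : Set.range b ⊆ Set.range (π ⁻¹ᵁ U).ι := by
    rintro _ ⟨s, rfl⟩
    rw [Scheme.Opens.range_ι]
    change π (b s) ∈ U
    rw [← Scheme.Hom.comp_apply, hb]
    change c s ∈ (U : Set X)
    rw [← hU.range_fromSpec]
    exact ⟨Spec.map φ' s, rfl⟩
  let b' := IsOpenImmersion.lift (π ⁻¹ᵁ U).ι b hrange
  have hb' : b' ≫ (π ⁻¹ᵁ U).ι = b := IsOpenImmersion.lift_fac _ _ _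
  have ha : a ≫ c = (π ⁻¹ᵁ U).ι ≫ π := by
    simp only [a, c, Category.assoc, ← Spec.map_comp_assoc, hl']
    rw [Scheme.Opens.toSpecΓ_naturality_assoc, hU.toSpecΓ_fromSpec, morphismRestrict_ι]
  have h1 : a ≫ b' = 𝟙 _ := by
    rw [← cancel_mono (π ⁻¹ᵁ U).ι, Category.assoc, hb', Category.id_comp]
    exact IsPerfection.ext h hV (by rw [Category.assoc, hb, ha])
  have h2 : b' ≫ a = 𝟙 _ := by
    obtain ⟨ψ, hψ⟩ := Spec.map_surjective (b' ≫ a)
    have h3 : (b' ≫ a) ≫ c = c := by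
      rw [Category.assoc, ha, ← Category.assoc, hb', hb]
    rw [← hψ] at h3 ⊢
    simp only [c, ← Category.assoc, cancel_mono, ← Spec.map_comp] at h3
    have h4 : φ' ≫ ψ = φ' := Spec.map_injective h3
    have h5 : ψ.hom = RingHom.id S :=
      hφ.ext_hom hS (by rw [RingHom.id_comp]; exact congrArg CommRingCat.Hom.hom h4)
    rw [show ψ = 𝟙 _ from CommRingCat.hom_ext h5, Spec.map_id]
  have hiso : IsIso a := ⟨b', h1, h2⟩
  have hA : IsAffineOpen (π ⁻¹ᵁ U) := IsAffine.of_isIso a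
  refine ⟨hA, ?_⟩
  have : IsIso ((π ⁻¹ᵁ U).toSpecΓ) := hA.isoSpec_hom ▸ inferInstance
  have : IsIso (Spec.map l') := IsIso.of_isIso_comp_left (π ⁻¹ᵁ U).toSpecΓ (Spec.map l')
  have : IsIso l' := isIso_of_isIso_SpecMap l'
  have hlb : Function.Bijective l := (ConcreteCategory.isIso_iff_bijective l').mp this
  rw [← hl]
  exact hφ.comp_bijective l hlb

theorem IsPerfection.isAffineHom (h : IsPerfection π p) : IsAffineHom π :=
  ⟨fun _ hU => (isAffineOpen_preimage_and_pRad h hU).1⟩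

theorem IsPerfection.isIntegralHom (h : IsPerfection π p) : IsIntegralHom π :=
  { IsPerfection.isAffineHom h with
    isIntegral_app := fun _ hU => (isAffineOpen_preimage_and_pRad h hU).2.isIntegral }

theorem IsPerfection.surjective (h : IsPerfection π p) : Surjective π := by
  refine ⟨fun x => ?_⟩
  obtain ⟨_, ⟨U, hU, rfl⟩, hxU, -⟩ :=
    X.isBasis_affineOpens.exists_subset_of_mem_open (Set.mem_univ x) isOpen_univ
  change X.Opens at U
  obtain ⟨hA, hR⟩ := isAffineOpen_preimage_and_pRad h hU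
  obtain ⟨q, hq⟩ := hR.isHomeomorph_comap.surjective (hU.isoSpec.hom ⟨x, hxU⟩)
  refine ⟨(π ⁻¹ᵁ U).ι (hA.isoSpec.inv q), ?_⟩
  have h1 : hA.isoSpec.inv ≫ π ∣_ U ≫ U.toSpecΓ = Spec.map (π.app U) := by
    rw [← Scheme.Opens.toSpecΓ_naturality, IsAffineOpen.isoSpec_inv_toSpecΓ_assoc]
  have h2 : (π ∣_ U) (hA.isoSpec.inv q) = (⟨x, hxU⟩ : U) := by
    apply hU.isoSpec.hom.homeomorph.injective
    change U.toSpecΓ ((π ∣_ U) (hA.isoSpec.inv q)) = _
    rw [← Scheme.Hom.comp_apply, ← Scheme.Hom.comp_apply, h1]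
    exact hq
  rw [← Scheme.Hom.comp_apply, ← morphismRestrict_ι, Scheme.Hom.comp_apply, h2]
  rfl

theorem IsPerfection.universallyInjective (h : IsPerfection π p) : UniversallyInjective π := by
  rw [UniversallyInjective.iff_diagonal, surjective_iff]
  intro z
  let P := pullback π π
  have : IsCharP P p := IsCharP.of_hom (pullback.fst π π) p
  have : IsCharP (Spec (P.residueField z)) p := IsCharP.of_hom (P.fromSpecResidueField z) p
  have hK : (p : P.residueField z) = 0 := natCast_eq_zero_of_isCharP_Spec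
  have hL : (p : AlgebraicClosure (P.residueField z)) = 0 :=
    natCast_map (p := p) (algebraMap _ _) hK
  have : CharP (AlgebraicClosure (P.residueField z)) p :=
    (CharP.charP_iff_prime_eq_zero hp.out).2 hL
  let L := CommRingCat.of (AlgebraicClosure (P.residueField z))
  have : IsCharP (Spec L) p := isCharP_Spec_of_natCast hL
  have hLP : IsPerfect (Spec L) p :=
    isPerfect_Spec (S := L) (perfR_of_isAlgClosed (AlgebraicClosure (P.residueField z)))
  let ψ : Spec L ⟶ P :=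
    Spec.map (CommRingCat.ofHom (algebraMap (P.residueField z) (AlgebraicClosure _))) ≫
      P.fromSpecResidueField z
  have e : ψ ≫ pullback.fst π π = ψ ≫ pullback.snd π π :=
    IsPerfection.ext h hLP (by simp only [Category.assoc, pullback.condition])
  have e2 : ψ = (ψ ≫ pullback.fst π π) ≫ pullback.diagonal π := by
    refine pullback.hom_ext ?_ ?_
    · simp only [Category.assoc, pullback.diagonal_fst, Category.comp_id]
    · simp only [Category.assoc, pullback.diagonal_snd, Category.comp_id]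
      exact e.symm
  let pt : Spec L := (⊥ : PrimeSpectrum L)
  refine ⟨(ψ ≫ pullback.fst π π) pt, ?_⟩
  rw [← Scheme.Hom.comp_apply, ← e2]
  exact Scheme.fromSpecResidueField_apply z _

end Groth.Agent.H27Perf
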