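import Groth.Agent.H27Perf.Basic
import Groth.Agent.H7Lim.AmpleDescent
import Groth.Agent.H7Lim.ModHom
import Groth.Agent.H7Lim.ModLocFree
import Groth.Agent.H7Lim.Approx.LimitExists
import Groth.Agent.H11Ample.Converse
import Groth.Agent.H11Norm.RelNorm
import Groth.Agent.H8Props.FinLocFree.Sheaf
import Groth.Agent.H22Alg.PB.Local
import Groth.Prelude.Def_Pic

/-!
# The perfection is the limit of the Frobenius tower; line bundles on it
-/

set_option autoImplicit false
set_option backward.isDefEq.respectTransparency false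
set_option linter.style.haveILetI false

universe u

open CategoryTheory CategoryTheory.Limits AlgebraicGeometry Opposite TopologicalSpace FrobSch
open Groth.Agent.H11Tilde Groth.Agent.H11Ample Groth.Agent.H7Lim

namespace Groth.Agent.H27Perf.Tower

variable (p : ℕ) [hp : Fact p.Prime] (X : Scheme.{u}) [IsCharP X p]

/-- The iterates of the absolute Frobenius. -/
noncomputable def fr : ℕ → (X ⟶ X)
  | 0 => 𝟙 X
  | n + 1 => fr n ≫ frob X p

theorem fr_add (a b : ℕ) : fr p X (a + b) = fr p X a ≫ fr p X b := by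
  induction b with
  | zero => exact (Category.comp_id _).symm
  | succ b ih =>
    change fr p X (a + b) ≫ frob X p = fr p X a ≫ fr p X b ≫ frob X p
    rw [ih, Category.assoc]

/-- The index category of the tower. -/
abbrev Idx : Type u := (ULift.{u} ℕ)ᵒᵈ

/-- The stage `n`. -/
def idx (n : ℕ) : Idx.{u} := OrderDual.toDual ⟨n⟩

/-- The number of a stage. -/
def lvl (i : Idx.{u}) : ℕ := (OrderDual.ofDual i).down

theorem lvl_le {i j : Idx.{u}} (f : i ⟶ j) : lvl j ≤ lvl i := f.le

/-- The arrow between stages. -/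
def step {m n : ℕ} (h : m ≤ n) : idx.{u} n ⟶ idx m := homOfLE h

/-- The Frobenius tower. -/
noncomputable def diag : Idx.{u} ⥤ Scheme.{u} where
  obj _ := X
  map {i j} _ := fr p X (lvl i - lvl j)
  map_id i := by rw [Nat.sub_self]; rfl
  map_comp {i j k} f g := by
    have h1 := lvl_le f
    have h2 := lvl_le g
    rw [← fr_add]
    congr 1
    omega

theorem diag_map {i j : Idx.{u}} (f : i ⟶ j) : (diag p X).map f = fr p X (lvl i - lvl j) := rfl

theorem isAffineHom_frob : IsAffineHom (frob X p) := ⟨fun _ hU => hU⟩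

theorem isAffineHom_fr : ∀ n, IsAffineHom (fr p X n)
  | 0 => inferInstanceAs (IsAffineHom (𝟙 X))
  | n + 1 => by
    haveI := isAffineHom_fr n
    haveI := isAffineHom_frob p X
    exact inferInstanceAs (IsAffineHom (fr p X n ≫ frob X p))

instance isAffineHom_diag (i j : Idx.{u}) (f : i ⟶ j) : IsAffineHom ((diag p X).map f) :=
  isAffineHom_fr p X _

section Limit

variable {p X} {c : Cone (diag p X)} (hc : IsLimit c)

/-- The projection to a stage. -/
noncomputable def pr (c : Cone (diag p X)) (n : ℕ) : c.pt ⟶ X := c.π.app (idx n)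

theorem cone_succ (c : Cone (diag p X)) (n : ℕ) :
    pr c (n + 1) ≫ frob X p = pr c n := by
  refine Eq.trans ?_ (c.w (step (Nat.le_succ n)))
  change _ = c.π.app (idx (n + 1)) ≫ _
  unfold pr
  congr 1
  rw [diag_map, show lvl (idx.{u} (n + 1)) - lvl (idx.{u} n) = 1 from Nat.add_sub_cancel_left n 1]
  exact (Category.id_comp _).symm

theorem cone_fr (c : Cone (diag p X)) (n : ℕ) :
    pr c n ≫ fr p X n = pr c 0 := c.w (step (Nat.zero_le n))

/-- A cone from a compatible sequence. -/
noncomputable def coneOfSeq {W : Scheme.{u}} (s : ℕ → (W ⟶ X)) (hs : ∀ n, s (n + 1) ≫ frob X p = s n) :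
    Cone (diag p X) where
  pt := W
  π := { app := fun i => s (lvl i)
         naturality := fun i j f => by
          have key : ∀ (k n : ℕ), s (n + k) ≫ fr p X k = s n := by
            intro k
            induction k with
            | zero => intro n; exact Category.comp_id _
            | succ k ih =>
              intro n
              have h := fr_add p X 1 k
              rw [Nat.add_comm 1 k] at h
              rw [h, ← Category.assoc, show fr p X 1 = frob X p from Category.id_comp _,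
                show n + (k + 1) = n + k + 1 from rfl, hs]
              exact ih n
          have := key (lvl i - lvl j) (lvl j)
          rw [Nat.add_sub_cancel' (lvl_le f)] at this
          exact (Category.id_comp _).trans this.symm }

include hc in
theorem isPerfection_limit [IsCharP c.pt p] : IsPerfection (p := p) (pr c 0) := by
  have hσ : ∀ n, pr c (n + 1 + 1) ≫ frob X p = pr c (n + 1) := fun n => cone_succ c _
  let σ : c.pt ⟶ c.pt := hc.lift (coneOfSeq (fun n => pr c (n + 1)) hσ)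
  have hfac : ∀ n, σ ≫ pr c n = pr c (n + 1) := fun n => hc.fac _ (idx n)
  have ext : ∀ {W : Scheme.{u}} {g g' : W ⟶ c.pt}, (∀ n, g ≫ pr c n = g' ≫ pr c n) → g = g' :=
    fun h => hc.hom_ext fun i => h (lvl i)
  have hperf : IsPerfect c.pt p := by
    refine ⟨σ, ext fun n => ?_, ext fun n => ?_⟩
    · rw [Category.assoc, hfac, Category.id_comp, frob_comp p (pr c (n + 1)), cone_succ]
    · rw [Category.assoc, Category.id_comp, frob_comp p (pr c n), ← Category.assoc, hfac, cone_succ]
  refine ⟨hperf, fun W _ hW => ⟨fun g g' h => ext fun n => ?_, fun g => ?_⟩⟩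
  · haveI : IsIso (frob W p) := hW
    induction n with
    | zero => exact h
    | succ n ih =>
      rw [← cancel_epi (frob W p), frob_comp p (g ≫ pr c (n + 1)), frob_comp p (g' ≫ pr c (n + 1)),
        Category.assoc, Category.assoc, cone_succ, ih]
  · haveI : IsIso (frob W p) := hW
    let s : ℕ → (W ⟶ X) := fun n => n.rec g fun _ t => inv (frob W p) ≫ t
    have hs : ∀ n, s (n + 1) ≫ frob X p = s n := fun n => by
      change (inv (frob W p) ≫ s n) ≫ frob X p = s n
      rw [Category.assoc, ← frob_comp p (s n), IsIso.inv_hom_id_assoc]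
    exact ⟨hc.lift (coneOfSeq s hs), hc.fac _ _⟩

end Limit

variable {p X}

theorem exists_limit {XP : Scheme.{u}} [IsCharP XP p] {π : XP ⟶ X} (h : IsPerfection π p) :
    ∃ (c : Cone (diag p X)) (_ : IsLimit c) (e : XP ≅ c.pt),
      π = e.hom ≫ pr c 0 := by
  haveI : IsCofiltered Idx.{u} := inferInstance
  obtain ⟨c, hc, -⟩ := Approx.exists_isLimit_affine (diag p X)
  let π₀ : c.pt ⟶ X := pr c 0
  haveI : IsCharP c.pt p := IsCharP.of_hom π₀ p
  have h' := isPerfection_limit hc
  obtain ⟨a, ha⟩ := IsPerfection.exists_lift h' h.1 π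
  obtain ⟨b, hb⟩ := IsPerfection.exists_lift h h'.1 π₀
  refine ⟨c, hc, ⟨a, b, IsPerfection.ext h h.1 ?_, IsPerfection.ext h' h'.1 ?_⟩, ha.symm⟩
  · rw [Category.assoc, hb, ha, Category.id_comp]
  · rw [Category.assoc, ha, hb, Category.id_comp]

/-! ### Pulling back along the Frobenius -/

theorem exists_iso_frob {L : X.Modules} (hL : PicF.IsInvertible L) :
    Nonempty ((Scheme.Modules.pullback (frob X p)).obj L ≅ CohB1.tensorPow L p) := by
  let J := {q : Σ V : X.Opens, Γ(L, V) // IsGen L q.2}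
  obtain ⟨φ, -⟩ := exists_iso_of_gen (P := (Scheme.Modules.pullback (frob X p)).obj L)
    (Q := CohB1.tensorPow L p) (fun j : J => frob X p ⁻¹ᵁ j.1.1)
    (fun x => by obtain ⟨V, e, hx, he⟩ := exists_gen hL x; exact ⟨⟨⟨V, e⟩, he⟩, hx⟩)
    (fun j => OmegaSh.pullSect (frob X p) L j.1.1 j.1.2)
    (fun j => IsGen.pullSect (frob X p) j.2)
    (fun j => (show Γ(CohB1.tensorPow L p, frob X p ⁻¹ᵁ j.1.1) from spow j.1.2 p)) (fun j => isGen_spow j.2 p)
    fun i j w hw => by
      obtain ⟨a, ha⟩ := transition (ei := i.1.2) j.2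
      let U := i.1.1 ⊓ j.1.1
      have e2 := congrArg (OmegaSh.pullSect (frob X p) L U) ha
      rw [pullSect_res, OmegaSh.pullSect_smul, pullSect_res] at e2
      have := (((IsGen.pullSect (frob X p) j.2).res ((frob X p).preimage_mono (inf_le_right : U ≤ j.1.1))).bijective
        le_rfl).1 (a₁ := (frob X p).app U a) (a₂ := w) (by
          beta_reduce; rw [H10Coh.mres_self]; exact e2.symm.trans hw)
      rw [← this]
      change (CohB1.tensorPow L p).presheaf.map (homOfLE (inf_le_left : U ≤ i.1.1)).op (spow i.1.2 p) =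
        a ^ p • (CohB1.tensorPow L p).presheaf.map (homOfLE (inf_le_right : U ≤ j.1.1)).op (spow j.1.2 p)
      rw [spow_res, spow_res, ha, spow_smul]
  exact ⟨φ⟩

theorem exists_iso_fr {L : X.Modules} (hL : PicF.IsInvertible L) :
    ∀ n, Nonempty ((Scheme.Modules.pullback (fr p X n)).obj L ≅ CohB1.tensorPow L (p ^ n)) := by
  intro n
  induction n with
  | zero =>
    obtain ⟨φ, -⟩ := exists_iso_of_gen (P := L) (Q := CohB1.tensorPow L (p ^ 0))
      (fun j : {q : Σ V : X.Opens, Γ(L, V) // IsGen L q.2} => j.1.1)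
      (fun x => by obtain ⟨V, e, hx, he⟩ := exists_gen hL x; exact ⟨⟨⟨V, e⟩, he⟩, hx⟩)
      (fun j => j.1.2) (fun j => j.2) (fun j => spow j.1.2 (p ^ 0)) (fun j => isGen_spow j.2 _)
      fun i j u hu => by rw [spow_res, spow_res, hu, spow_smul, pow_zero, pow_one]
    exact ⟨(Scheme.Modules.pullbackId X).app L ≪≫ φ⟩
  | succ n ih =>
    obtain ⟨e⟩ := ih
    obtain ⟨e₁⟩ := exists_iso_frob (p := p) hL
    obtain ⟨e₂⟩ := exists_iso_pullback_tensorPow (fr p X n) hL p
    obtain ⟨e₃⟩ := Groth.Agent.H11Norm.exists_iso_tensorPow_of_iso e (H11Ample.isInvertible_pullback _ hL) p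
    obtain ⟨e₄, -⟩ := exists_iso_mul hL (p ^ n) p
    exact ⟨((Scheme.Modules.pullbackComp (fr p X n) (frob X p)).app L).symm ≪≫
      (Scheme.Modules.pullback (fr p X n)).mapIso e₁ ≪≫ e₂ ≪≫ e₃ ≪≫ e₄⟩

theorem pullCl_fr {L : X.Modules} (hL : PicF.IsInvertible L) (n : ℕ) :
    PicF.pullCl (fr p X n) (PicF.cl L) = PicF.cl (CohB1.tensorPow L (p ^ n)) :=
  Quot.sound (exists_iso_fr hL n)

/-! ### Classes -/

theorem pullCl_comp' {A B C : Scheme.{u}} (f : A ⟶ B) (g : B ⟶ C) (d : PicF.Cl C) :
    PicF.pullCl (f ≫ g) d = PicF.pullCl f (PicF.pullCl g d) := by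
  induction d using Quot.ind with | _ L =>
  exact Quot.sound ⟨((Scheme.Modules.pullbackComp f g).app L).symm⟩

theorem pullCl_id' {A : Scheme.{u}} (d : PicF.Cl A) : PicF.pullCl (𝟙 A) d = d := by
  induction d using Quot.ind with | _ L =>
  exact Quot.sound ⟨(Scheme.Modules.pullbackId A).app L⟩

theorem pullCl_trivial {A B : Scheme.{u}} (f : A ⟶ B) :
    PicF.pullCl f (PicF.cl (Coh.structureModule B)) = PicF.cl (Coh.structureModule A) :=
  Quot.sound (nonempty_pullback_structureModule_iso f)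

theorem isIso_of_conj {C : Type*} [Category C] {A B A' B' : C} (a : A ≅ A') (b : B ≅ B') (m : A ⟶ B)
    (g : A' ≅ B') (h : a.inv ≫ m ≫ b.hom = g.hom) : IsIso m := by
  rw [show m = a.hom ≫ g.hom ≫ b.inv by rw [← h]; simp]
  infer_instance

theorem iso_of_cl_eq {A : Scheme.{u}} {L L' : A.Modules} (h : PicF.cl L = PicF.cl L') : Nonempty (L ≅ L') :=
  (Equivalence.eqvGen_iff (⟨fun M => ⟨Iso.refl M⟩, fun ⟨e⟩ => ⟨e.symm⟩, fun ⟨e⟩ ⟨e'⟩ => ⟨e ≪≫ e'⟩⟩ :
    Equivalence fun M M' : A.Modules => Nonempty (M ≅ M'))).1 (Quot.eq.1 h)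

variable [CompactSpace X] [QuasiSeparatedSpace X] {c : Cone (diag p X)} (hc : IsLimit c)

include hc in
theorem exists_trivial_stage {L : X.Modules} (hL : PicF.IsInvertible L)
    (h : PicF.pullCl (pr c 0) (PicF.cl L) = PicF.cl (Coh.structureModule c.pt)) :
    ∃ n, PicF.pullCl (fr p X n) (PicF.cl L) = PicF.cl (Coh.structureModule X) := by
  let π₀ : c.pt ⟶ X := pr c 0
  have hO : PicF.IsInvertible (Coh.structureModule X) := isInvertible_structureModule
  have hLf : CohB1.IsFP L := H8Props.FinLocFree.isFP_of_isFinLocFree L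
    (ModLocFree.isFinLocFree_of_rank (H22Alg.PB.rank_one_of_isInvertible hL))
  have hOf : CohB1.IsFP (Coh.structureModule X) := H8Props.FinLocFree.isFP_of_isFinLocFree _
    (ModLocFree.isFinLocFree_of_rank (H22Alg.PB.rank_one_of_isInvertible hO))
  haveI : CompactSpace ((diag p X).obj (idx 0)) := ‹CompactSpace X›
  haveI : QuasiSeparatedSpace ((diag p X).obj (idx 0)) := ‹QuasiSeparatedSpace X›
  obtain ⟨g⟩ := iso_of_cl_eq (h.trans (pullCl_trivial π₀).symm)
  obtain ⟨j, φ, u, hu⟩ := ModHom.exists_hom hc (i₀ := idx 0) hLf (H29Fitt.isQCoh_of_isFP _ hOf) g.hom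
  have hiso : IsIso ((Scheme.Modules.pullback (c.π.app j)).map u) := by
    exact isIso_of_conj _ _ _ _ hu
  haveI : CompactSpace ((diag p X).obj j) := ‹CompactSpace X›
  have hF' : CohB1.IsFP ((Scheme.Modules.pullback ((diag p X).map φ)).obj L) := H06EGA9.isFP_pullback _ hLf
  have hG' : CohB1.IsFP ((Scheme.Modules.pullback ((diag p X).map φ)).obj (Coh.structureModule X)) :=
    H06EGA9.isFP_pullback _ hOf
  obtain ⟨k, ψ, hk⟩ := (ModStage.isIso_iff hc (H29Fitt.isQCoh_of_isFP _ hF') (H29Fitt.isQCoh_of_isFP _ hG') u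
    (H29Fitt.isFT_of_isFP _ hF') hG').1 hiso
  haveI := hk
  refine ⟨lvl k, ?_⟩
  have e : (diag p X).map ψ ≫ (diag p X).map φ = fr p X (lvl k) := by
    rw [← Functor.map_comp, diag_map]
    rfl
  rw [← e]
  refine (pullCl_comp' ((diag p X).map ψ) ((diag p X).map φ) (PicF.cl L)).trans ?_
  refine Eq.trans ?_ (pullCl_trivial ((diag p X).map ψ ≫ (diag p X).map φ))
  refine Eq.trans ?_ (pullCl_comp' ((diag p X).map ψ) ((diag p X).map φ) (PicF.cl (Coh.structureModule X))).symm
  exact Quot.sound ⟨asIso ((Scheme.Modules.pullback ((diag p X).map ψ)).map u)⟩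

include hc in
theorem exists_invertible_stage {M : c.pt.Modules} (hM : PicF.IsInvertible M) :
    ∃ (n : ℕ) (L : X.Modules), PicF.IsInvertible L ∧
      PicF.cl M = PicF.pullCl (pr c n) (PicF.cl L) := by
  haveI : CompactSpace ((diag p X).obj (idx 0)) := ‹CompactSpace X›
  haveI : QuasiSeparatedSpace ((diag p X).obj (idx 0)) := ‹QuasiSeparatedSpace X›
  have hMr := H22Alg.PB.rank_one_of_isInvertible hM
  have hMf : CohB1.IsFP M := H8Props.FinLocFree.isFP_of_isFinLocFree M (ModLocFree.isFinLocFree_of_rank hMr)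
  have hMq := H29Fitt.isQCoh_of_isFP M hMf
  obtain ⟨P, q, hP, hq⟩ := ModHom.exists_pullback_epi hc (i₀ := idx 0) hMq (H29Fitt.isFT_of_isFP M hMf)
  haveI := hq
  obtain ⟨j, φ, G, hGq, pj, e, hGf, -, -⟩ := ModHom.exists_quotient hc hP hMq hMf q
  haveI : CompactSpace ((diag p X).obj j) := ‹CompactSpace X›
  have hr : FlatMod.IsFinLocFreeOfRank 1 ((Scheme.Modules.pullback (c.π.app j)).obj G) :=
    H22Alg.PB.rank_one_of_isInvertible (isInvertible_of_iso e.symm hM)
  obtain ⟨k, ψ, hk⟩ := (ModLocFree.isFinLocFreeOfRank_iff hc hGf 1).1 hr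
  refine ⟨lvl k, (Scheme.Modules.pullback ((diag p X).map ψ)).obj G, H22Alg.PB.isInvertible_of_rank_one hk, ?_⟩
  exact Quot.sound ⟨e.symm ≪≫ ((ModStage.πIso ψ).app G).symm⟩

end Groth.Agent.H27Perf.Tower
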