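import Groth.Prelude.Def_Flat
import Mathlib

/-!
# Cancellation of properties along surjective morphisms; universal homeomorphisms
-/

set_option autoImplicit false
universe u

open CategoryTheory AlgebraicGeometry Limits

namespace Groth.Agent.H27Perf

variable {X X' Y : Scheme.{u}} (q : X' ⟶ X) (f : X ⟶ Y)

/-- The map `X' ×_Y X' ⟶ X ×_Y X`. -/
noncomputable abbrev sqMap : pullback (q ≫ f) (q ≫ f) ⟶ pullback f f :=
  pullback.map (q ≫ f) (q ≫ f) f f q q (𝟙 _) (Category.comp_id _) (Category.comp_id _)

theorem diagonal_comp_sqMap :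
    pullback.diagonal (q ≫ f) ≫ sqMap q f = q ≫ pullback.diagonal f := by
  refine pullback.hom_ext ?_ ?_ <;>
    simp only [Category.assoc, pullback.lift_fst, pullback.lift_snd, pullback.diagonal_fst,
      pullback.diagonal_snd, pullback.diagonal_fst_assoc, pullback.diagonal_snd_assoc,
      Category.comp_id]

theorem surjective_sqMap [Surjective q] : Surjective (sqMap q f) :=
  MorphismProperty.pullbackMap (P := @Surjective) ‹_› ‹_› rfl rfl

theorem quasiCompact_of_comp_surjective [QuasiCompact (q ≫ f)] [Surjective q] :
    QuasiCompact f := by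
  refine ⟨fun U hU hU' => ?_⟩
  have h := ((q ≫ f).isCompact_preimage (U := ⟨U, hU⟩) hU').image q.continuous
  have e : q '' ((q ≫ f) ⁻¹' U) = f ⁻¹' U := by
    rw [show ((q ≫ f : X' ⟶ Y) ⁻¹' U : Set X') = q ⁻¹' (f ⁻¹' U) from rfl,
      Set.image_preimage_eq _ q.surjective]
  exact e ▸ h

theorem quasiSeparated_of_comp_surjective [QuasiSeparated (q ≫ f)] [Surjective q]
    [QuasiCompact q] : QuasiSeparated f := by
  have h1 : QuasiCompact (sqMap q f) :=
    MorphismProperty.pullbackMap (P := @QuasiCompact) ‹_› ‹_› rfl rfl
  have h2 : QuasiCompact (q ≫ pullback.diagonal f) := by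
    rw [← diagonal_comp_sqMap]
    infer_instance
  exact ⟨quasiCompact_of_comp_surjective q (pullback.diagonal f)⟩

theorem isSeparated_of_comp_surjective [IsSeparated (q ≫ f)] [Surjective q]
    [UniversallyClosed q] : IsSeparated f := by
  have h1 : UniversallyClosed (sqMap q f) :=
    MorphismProperty.pullbackMap (P := @UniversallyClosed) ‹_› ‹_› rfl rfl
  have h2 : UniversallyClosed (q ≫ pullback.diagonal f) := by
    rw [← diagonal_comp_sqMap]
    infer_instance
  have h3 : UniversallyClosed (pullback.diagonal f) :=
    UniversallyClosed.of_comp_surjective q (pullback.diagonal f)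
  exact ⟨IsClosedImmersion.of_isPreimmersion _ (pullback.diagonal f).isClosedMap.isClosed_range⟩

theorem universallyInjective_of_comp_surjective [UniversallyInjective (q ≫ f)] [Surjective q] :
    UniversallyInjective f := by
  rw [UniversallyInjective.iff_diagonal]
  have h1 : Surjective (pullback.diagonal (q ≫ f)) :=
    (UniversallyInjective.iff_diagonal _).mp inferInstance
  have := surjective_sqMap q f
  have h2 : Surjective (q ≫ pullback.diagonal f) := by
    rw [← diagonal_comp_sqMap]
    infer_instance
  exact Surjective.of_comp q (pullback.diagonal f)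

theorem universallyInjective_of_comp {Z : Scheme.{u}} (a : X' ⟶ Z) (b : Z ⟶ Y)
    [UniversallyInjective (a ≫ b)] : UniversallyInjective a := by
  refine ((tfae_universallyInjective a).out 0 1).mpr fun K instK g₁ g₂ e => ?_
  have h1 : UniversallyInjective (a ≫ b) ↔
      ∀ (L : Type u) [Field L], Function.Injective (fun g : Spec (.of L) ⟶ X' ↦ g ≫ a ≫ b) :=
    (tfae_universallyInjective (a ≫ b)).out 0 1
  let := instK
  refine h1.mp inferInstance K (a₁ := g₁) (a₂ := g₂) ?_
  exact (Category.assoc g₁ a b).symm.trans ((congrArg (· ≫ b) e).trans (Category.assoc g₂ a b))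

theorem isUnivHomeo_of [UniversallyClosed f] [UniversallyInjective f] [Surjective f] :
    FlatMor.IsUnivHomeo f := by
  intro X₁ Y₁ i₁ i₂ f' H
  have h1 : UniversallyClosed f' := MorphismProperty.of_isPullback H.flip inferInstance
  have h2 : UniversallyInjective f' := MorphismProperty.of_isPullback H.flip inferInstance
  have h3 : Surjective f' := MorphismProperty.of_isPullback H.flip inferInstance
  exact isHomeomorph_iff_continuous_isClosedMap_bijective.mpr
    ⟨f'.continuous, f'.isClosedMap, f'.injective, f'.surjective⟩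

variable {f}

theorem universallyClosed_of_isUnivHomeo (h : FlatMor.IsUnivHomeo f) : UniversallyClosed f :=
  ⟨fun _ _ _ _ _ H => (h _ _ _ H).isClosedMap⟩

theorem universallyInjective_of_isUnivHomeo (h : FlatMor.IsUnivHomeo f) :
    UniversallyInjective f :=
  ⟨fun _ _ _ _ _ H => (h _ _ _ H).injective⟩

theorem surjective_of_isUnivHomeo (h : FlatMor.IsUnivHomeo f) : Surjective f :=
  ⟨(h _ _ _ IsPullback.of_id_snd).surjective⟩

end Groth.Agent.H27Perf
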