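import Groth.Prelude.Def_Frob
import Mathlib

/-!
# Perfect rings and `p`-radical maps (zero ring allowed)
-/

set_option autoImplicit false
universe u

open Function

namespace Groth.Agent.H27Perf

variable (p : ℕ)

/-- `p = 0` in `S` and `s ↦ s ^ p` is bijective. -/
def PerfR (S : Type u) [CommRing S] : Prop :=
  (p : S) = 0 ∧ Bijective fun s : S => s ^ p

/-- Every element has a `p`-power in the image, and kernel elements have vanishing `p`-powers. -/
structure PRad {R S : Type u} [CommRing R] [CommRing S] (φ : R →+* S) : Prop where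
  pow_mem : ∀ s, ∃ n r, φ r = s ^ p ^ n
  ker : ∀ r, φ r = 0 → ∃ n, r ^ p ^ n = 0

variable [hp : Fact p.Prime]
variable {p}

theorem add_pow' {S : Type u} [CommRing S] (h : (p : S) = 0) (x y : S) (n : ℕ) :
    (x + y) ^ p ^ n = x ^ p ^ n + y ^ p ^ n := by
  rcases subsingleton_or_nontrivial S with hS | hS
  · exact Subsingleton.elim _ _
  · have : CharP S p := (CharP.charP_iff_prime_eq_zero hp.out).2 h
    exact add_pow_char_pow x y p n

theorem sub_pow' {S : Type u} [CommRing S] (h : (p : S) = 0) (x y : S) (n : ℕ) :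
    (x - y) ^ p ^ n = x ^ p ^ n - y ^ p ^ n := by
  rw [eq_sub_iff_add_eq, ← add_pow' h, sub_add_cancel]

theorem sum_pow' {S : Type u} [CommRing S] (h : (p : S) = 0) {ι : Type*} (s : Finset ι)
    (f : ι → S) (n : ℕ) : (∑ i ∈ s, f i) ^ p ^ n = ∑ i ∈ s, f i ^ p ^ n := by
  rcases subsingleton_or_nontrivial S with hS | hS
  · exact Subsingleton.elim _ _
  · have : CharP S p := (CharP.charP_iff_prime_eq_zero hp.out).2 h
    exact sum_pow_char_pow p n s f

theorem natCast_map {R S : Type u} [CommRing R] [CommRing S] (φ : R →+* S) (h : (p : R) = 0) :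
    (p : S) = 0 := by
  rw [← map_natCast φ, h, map_zero]

theorem pow_eq_zero_mono {S : Type u} [CommRing S] {x : S} {n m : ℕ} (h : x ^ p ^ n = 0)
    (hnm : n ≤ m) : x ^ p ^ m = 0 :=
  pow_eq_zero_of_le (Nat.pow_le_pow_right hp.out.pos hnm) h

namespace PerfR

variable {S : Type u} [CommRing S]

theorem pow_bij (h : PerfR p S) (n : ℕ) : Bijective fun s : S => s ^ p ^ n := by
  induction n with
  | zero => exact (by funext s; simp : (fun s : S => s ^ p ^ 0) = id) ▸ bijective_id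
  | succ n ih =>
    have : (fun s : S => s ^ p ^ (n + 1)) = (fun s => s ^ p) ∘ fun s => s ^ p ^ n := by
      funext s
      simp [pow_succ, pow_mul]
    rw [this]
    exact h.2.comp ih

theorem eq_zero (h : PerfR p S) {x : S} {n : ℕ} (hx : x ^ p ^ n = 0) : x = 0 :=
  (h.pow_bij n).1 (by simpa [zero_pow (pow_ne_zero n hp.out.ne_zero)] using hx)

theorem ext_of_pow (h : PerfR p S) {x y : S} {n : ℕ} (hxy : x ^ p ^ n = y ^ p ^ n) : x = y :=
  (h.pow_bij n).1 hxy

theorem exists_root (h : PerfR p S) (x : S) (n : ℕ) : ∃ y : S, y ^ p ^ n = x :=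
  (h.pow_bij n).2 x

theorem of_bijective {T : Type u} [CommRing T] (e : S →+* T) (he : Bijective e) (h : PerfR p S) :
    PerfR p T := by
  refine ⟨natCast_map e h.1, fun a b hab => ?_, fun b => ?_⟩
  · obtain ⟨a', rfl⟩ := he.2 a
    obtain ⟨b', rfl⟩ := he.2 b
    have : a' ^ p = b' ^ p := he.1 (by simpa using hab)
    rw [h.2.1 this]
  · obtain ⟨b', rfl⟩ := he.2 b
    obtain ⟨a, ha⟩ := h.2.2 b'
    exact ⟨e a, by simpa using congrArg e ha⟩

theorem isReduced (h : PerfR p S) : IsReduced S where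
  eq_zero x := fun ⟨k, hk⟩ => by
    obtain ⟨n, hn⟩ : ∃ n, k ≤ p ^ n := ⟨k, (Nat.lt_pow_self hp.out.one_lt).le⟩
    exact h.eq_zero (pow_eq_zero_of_le hn hk)

end PerfR

theorem perfR_of_isAlgClosed (K : Type u) [Field K] [IsAlgClosed K] [CharP K p] : PerfR p K := by
  refine ⟨CharP.cast_eq_zero K p, ?_⟩
  have : ExpChar K p := .prime hp.out
  exact bijective_frobenius K p

/-- A perfect closure of a ring with `p = 0`. -/
theorem exists_perfClosure (R : Type u) [CommRing R] (h : (p : R) = 0) :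
    ∃ (S : Type u) (_ : CommRing S) (φ : R →+* S), PerfR p S ∧ PRad p φ ∧
      ∀ (T : Type u) [CommRing T], PerfR p T → ∀ j : R →+* T, ∃ l : S →+* T, l.comp φ = j := by
  rcases subsingleton_or_nontrivial R with hR | hR
  · refine ⟨R, inferInstance, RingHom.id R, ⟨h, ?_⟩, ⟨fun s => ⟨0, s, by simp⟩,
      fun r _ => ⟨0, Subsingleton.elim _ _⟩⟩, fun T _ _ j => ⟨j, RingHom.comp_id j⟩⟩
    exact ⟨fun a b _ => Subsingleton.elim a b, fun b => ⟨b, Subsingleton.elim _ _⟩⟩
  have hC : CharP R p := (CharP.charP_iff_prime_eq_zero hp.out).2 h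
  have : ExpChar (PerfectClosure R p) p := .prime hp.out
  refine ⟨PerfectClosure R p, inferInstance, PerfectClosure.of R p,
    ⟨CharP.cast_eq_zero _ p, bijective_frobenius (PerfectClosure R p) p⟩, ⟨?_, ?_⟩, ?_⟩
  · intro s
    induction s using PerfectClosure.induction_on with
    | h x =>
      refine ⟨x.1, x.2, ?_⟩
      rw [← PerfectClosure.iterate_frobenius_mk, ← coe_iterateFrobenius, iterateFrobenius_def]
  · intro r hr
    rw [PerfectClosure.of_apply, PerfectClosure.zero_def, PerfectClosure.mk_eq_iff] at hr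
    obtain ⟨n, hn⟩ := hr
    refine ⟨n, ?_⟩
    simpa [← coe_iterateFrobenius, iterateFrobenius_def,
      zero_pow (pow_ne_zero n hp.out.ne_zero)] using hn
  · intro T _ hT j
    rcases subsingleton_or_nontrivial T with hT' | hT'
    · exact ⟨{ toFun := fun _ => 0, map_one' := Subsingleton.elim _ _,
               map_mul' := fun _ _ => Subsingleton.elim _ _, map_zero' := rfl,
               map_add' := fun _ _ => Subsingleton.elim _ _ },
        RingHom.ext fun _ => Subsingleton.elim _ _⟩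
    have : CharP T p := (CharP.charP_iff_prime_eq_zero hp.out).2 hT.1
    have : ExpChar T p := .prime hp.out
    have : PerfectRing T p := ⟨hT.2⟩
    exact ⟨PerfectClosure.lift R p T j, (PerfectClosure.lift R p T).left_inv j⟩

namespace PRad

variable {R S T : Type u} [CommRing R] [CommRing S] [CommRing T] {φ : R →+* S}

theorem ext_hom (h : PRad p φ) (hT : PerfR p T) {f g : S →+* T} (he : f.comp φ = g.comp φ) :
    f = g := RingHom.ext fun s => by
  obtain ⟨n, r, hr⟩ := h.pow_mem s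
  have := RingHom.congr_fun he r
  simp only [RingHom.comp_apply, hr, map_pow] at this
  exact hT.ext_of_pow this

theorem comp_bijective (h : PRad p φ) (e : S →+* T) (he : Bijective e) : PRad p (e.comp φ) := by
  refine ⟨fun t => ?_, fun r hr => h.ker r (he.1 (by simpa using hr))⟩
  obtain ⟨s, rfl⟩ := he.2 t
  obtain ⟨n, r, hr⟩ := h.pow_mem s
  exact ⟨n, r, by rw [RingHom.comp_apply, hr, map_pow]⟩

theorem bijective_comp (h : PRad p φ) (e : T →+* R) (he : Bijective e) : PRad p (φ.comp e) := by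
  refine ⟨fun s => ?_, fun t ht => ?_⟩
  · obtain ⟨n, r, hr⟩ := h.pow_mem s
    obtain ⟨t, rfl⟩ := he.2 r
    exact ⟨n, t, hr⟩
  · obtain ⟨n, hn⟩ := h.ker (e t) ht
    exact ⟨n, he.1 (by rw [map_pow, hn, map_zero])⟩

theorem pow_mem_ge (h : PRad p φ) (s : S) : ∃ n, ∀ m, n ≤ m → ∃ r, φ r = s ^ p ^ m := by
  obtain ⟨n, r, hr⟩ := h.pow_mem s
  refine ⟨n, fun m hm => ⟨r ^ p ^ (m - n), ?_⟩⟩
  rw [map_pow, hr, ← pow_mul, ← pow_add, Nat.add_sub_cancel' hm]

theorem pow_mem_fintype (h : PRad p φ) {ι : Type*} [Fintype ι] (s : ι → S) :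
    ∃ n, ∀ i, ∃ r, φ r = s i ^ p ^ n := by
  choose n hn using fun i => h.pow_mem_ge (s i)
  exact ⟨Finset.univ.sup n, fun i => hn i _ (Finset.le_sup (Finset.mem_univ i))⟩

theorem ker_le_nilradical (h : PRad p φ) : RingHom.ker φ ≤ nilradical R := fun r hr =>
  let ⟨n, hn⟩ := h.ker r hr
  ⟨p ^ n, hn⟩

theorem isIntegral (h : PRad p φ) : φ.IsIntegral := fun s => by
  obtain ⟨n, r, hr⟩ := h.pow_mem s
  algebraize [φ]
  have h1 : IsIntegral R (s ^ p ^ n) := hr ▸ isIntegral_algebraMap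
  exact IsIntegral.of_pow (pow_pos hp.out.pos n) h1

theorem isHomeomorph_comap (h : PRad p φ) : IsHomeomorph (PrimeSpectrum.comap φ) := by
  refine PrimeSpectrum.isHomeomorph_comap φ (fun s => ?_) h.ker_le_nilradical
  obtain ⟨n, r, hr⟩ := h.pow_mem s
  exact ⟨p ^ n, pow_pos hp.out.pos n, r, hr⟩

theorem span_eq_top (h : PRad p φ) {ι : Type*} (g : ι → R)
    (hg : Ideal.span (Set.range fun i => φ (g i)) = ⊤) : Ideal.span (Set.range g) = ⊤ := by
  by_contra hne
  obtain ⟨m, hm, hle⟩ := Ideal.exists_le_maximal _ hne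
  obtain ⟨q, hq⟩ := h.isHomeomorph_comap.surjective ⟨m, hm.isPrime⟩
  have hsub : Ideal.span (Set.range fun i => φ (g i)) ≤ q.asIdeal := by
    rw [Ideal.span_le]
    rintro _ ⟨i, rfl⟩
    have : g i ∈ (PrimeSpectrum.comap φ q).asIdeal := by
      rw [hq]
      exact hle (Ideal.subset_span ⟨i, rfl⟩)
    exact this
  exact q.isPrime.ne_top (top_le_iff.mp (hg ▸ hsub))

end PRad

/-- Perfection preserves flatness. -/
theorem flat_of_pRad {R S R' S' : Type u} [CommRing R] [CommRing S] [CommRing R'] [CommRing S']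
    {φR : R →+* R'} {φS : S →+* S'} (hR : PRad p φR) (hS : PRad p φS) (hp0 : (p : S) = 0)
    (hR' : PerfR p R') (hS' : PerfR p S') {f : R →+* S} {f' : R' →+* S'}
    (w : f'.comp φR = φS.comp f) (hf : f.Flat) : f'.Flat := by
  algebraize [f, f']
  rw [RingHom.Flat]
  rw [Module.Flat.iff_forall_isTrivialRelation]
  intro l a x hax
  obtain ⟨n1, hn1⟩ := hR.pow_mem_fintype a
  obtain ⟨n2, hn2⟩ := hS.pow_mem_fintype x
  have ha : ∀ i, ∃ r, φR r = a i ^ p ^ (n1 + n2) := fun i => by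
    obtain ⟨r, hr⟩ := hn1 i
    exact ⟨r ^ p ^ n2, by rw [map_pow, hr, ← pow_mul, ← pow_add]⟩
  have hx : ∀ i, ∃ r, φS r = x i ^ p ^ (n1 + n2) := fun i => by
    obtain ⟨r, hr⟩ := hn2 i
    exact ⟨r ^ p ^ n1, by rw [map_pow, hr, ← pow_mul, ← pow_add, add_comm n2]⟩
  choose A hA using ha
  choose B hB using hx
  have hw : ∀ r, f' (φR r) = φS (f r) := RingHom.congr_fun w
  have hax' : ∑ i, f' (a i) * x i = 0 := by
    rw [← hax]
    refine Finset.sum_congr rfl fun i _ => ?_
    rw [Algebra.smul_def]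
    rfl
  have h0 : φS (∑ i, f (A i) * B i) = 0 := by
    have : φS (∑ i, f (A i) * B i) = (∑ i, f' (a i) * x i) ^ p ^ (n1 + n2) := by
      rw [map_sum, sum_pow' hS'.1]
      refine Finset.sum_congr rfl fun i _ => ?_
      rw [map_mul, ← hw, hA, hB, map_pow, mul_pow]
    rw [this, hax', zero_pow (pow_ne_zero _ hp.out.ne_zero)]
  obtain ⟨k, hk⟩ := hS.ker _ h0
  rw [sum_pow' hp0] at hk
  have hrel : ∑ i, (A i ^ p ^ k) • (B i ^ p ^ k) = (0 : S) := by
    rw [← hk]
    refine Finset.sum_congr rfl fun i _ => ?_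
    rw [Algebra.smul_def, mul_pow, ← map_pow f]
    rfl
  have hf2 : Module.Flat R S := hf
  obtain ⟨m, c, y, hBy, hAc⟩ := @Module.Flat.isTrivialRelation_of_sum_smul_eq_zero R S _ _ _ hf2
    (Fin l) _ (fun i => A i ^ p ^ k) (fun i => B i ^ p ^ k) hrel
  choose α hα using fun i j => hR'.exists_root (φR (c i j)) (n1 + n2 + k)
  choose η hη using fun j => hS'.exists_root (φS (y j)) (n1 + n2 + k)
  refine ⟨m, α, η, fun i => hS'.ext_of_pow (n := n1 + n2 + k) ?_,
    fun j => hR'.eq_zero (n := n1 + n2 + k) ?_⟩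
  · replace hBy : B i ^ p ^ k = ∑ j, c i j • y j := hBy i
    rw [sum_pow' hS'.1, pow_add p, pow_mul, ← hB, ← map_pow, hBy, map_sum]
    refine Finset.sum_congr rfl fun j _ => ?_
    rw [Algebra.smul_def, Algebra.smul_def]
    change φS (f (c i j) * y j) = (f' (α i j) * η j) ^ (p ^ (n1 + n2) * p ^ k)
    rw [← pow_add p]
    rw [mul_pow, hη, ← map_pow f', hα, map_mul, hw]
  · have h1 := congrArg φR (hAc j)
    rw [map_zero, map_sum] at h1
    rw [sum_pow' hR'.1, ← h1]
    refine Finset.sum_congr rfl fun i _ => ?_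
    rw [mul_pow, hα, map_mul, map_pow, pow_add p, pow_mul, hA]

end Groth.Agent.H27Perf
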