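import Groth.Agent.H27Perf.Ring

/-!
# Compact objects among perfect algebras
-/

set_option autoImplicit false
universe u

open CategoryTheory Limits

namespace Groth.Agent.H27Perf

variable {p : ℕ} [hp : Fact p.Prime] {B : CommRingCat.{u}}

section Stage

variable (R A : Type u) [CommRing R] [CommRing A] [Algebra R A]

/-- Evaluation of the free algebra on a finite set of elements. -/
noncomputable abbrev evalSet (S : Finset A) : MvPolynomial S R →+* A :=
  (MvPolynomial.aeval (R := R) fun x : S => (x : A)).toRingHom

/-- A finite set of elements with finitely many relations among them. -/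
structure Stage where
  /-- the generators -/
  S : Finset A
  /-- the relations -/
  F : Ideal (MvPolynomial S R)
  fg : F.FG
  le_ker : F ≤ RingHom.ker (evalSet R A S)

variable {R A}

/-- The change of free algebra. -/
noncomputable abbrev renameSet {S S' : Finset A} (h : S ⊆ S') :
    MvPolynomial S R →+* MvPolynomial S' R :=
  (MvPolynomial.rename (R := R) fun x => (⟨x.1, h x.2⟩ : S')).toRingHom

theorem evalSet_rename {S S' : Finset A} (h : S ⊆ S') (g) :
    evalSet R A S' (renameSet h g) = evalSet R A S g :=
  MvPolynomial.aeval_rename _ _ g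

theorem renameSet_trans {S S' S'' : Finset A} (h : S ⊆ S') (h' : S' ⊆ S'')
    (g : MvPolynomial S R) : renameSet h' (renameSet h g) = renameSet (h.trans h') g :=
  MvPolynomial.rename_rename _ _ g

theorem renameSet_self {S : Finset A} (h : S ⊆ S) (g : MvPolynomial S R) : renameSet h g = g :=
  MvPolynomial.rename_id_apply g

noncomputable instance : Preorder (Stage R A) where
  le i j := ∃ h : i.S ⊆ j.S, ∀ g ∈ i.F, renameSet h g ∈ j.F
  le_refl _ := ⟨subset_rfl, fun g hg => by rwa [renameSet_self]⟩
  le_trans _ _ _ := fun ⟨h, hh⟩ ⟨h', hh'⟩ =>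
    ⟨h.trans h', fun g hg => renameSet_trans h h' g ▸ hh' _ (hh g hg)⟩

instance : Nonempty (Stage R A) := ⟨⟨∅, ⊥, Submodule.fg_bot, bot_le⟩⟩

instance : IsDirected (Stage R A) (· ≤ ·) := ⟨fun i j => by
  classical
  let hi : i.S ⊆ i.S ∪ j.S := Finset.subset_union_left
  let hj : j.S ⊆ i.S ∪ j.S := Finset.subset_union_right
  refine ⟨⟨i.S ∪ j.S, i.F.map (renameSet hi) ⊔ j.F.map (renameSet hj),
    Submodule.FG.sup (Ideal.FG.map i.fg _) (Ideal.FG.map j.fg _), sup_le ?_ ?_⟩,
    ⟨hi, fun g hg => Submodule.mem_sup_left (Ideal.mem_map_of_mem _ hg)⟩,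
    ⟨hj, fun g hg => Submodule.mem_sup_right (Ideal.mem_map_of_mem _ hg)⟩⟩
  all_goals
    rw [Ideal.map_le_iff_le_comap]
    intro g hg
    rw [Ideal.mem_comap, RingHom.mem_ker, evalSet_rename]
  · exact i.le_ker hg
  · exact j.le_ker hg⟩

end Stage

/-- A compact perfect algebra is a retract of a term of any presentation of it as a filtered colimit
of perfect algebras. -/
theorem exists_section_of_system
    (A : ObjectProperty.FullSubcategory fun Y : Under B => (p : Y.right) = 0 ∧
      Function.Bijective fun y : Y.right => y ^ p)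
    [IsFinitelyPresentable.{u} A] {ι : Type u} [Preorder ι] [IsDirected ι (· ≤ ·)] [Nonempty ι]
    (R : ι → CommRingCat.{u}) (a : ∀ i, B →+* R i) (hR : ∀ i, PerfR p (R i))
    (t : ∀ i j, i ≤ j → R i →+* R j) (htB : ∀ i j h, (t i j h).comp (a i) = a j)
    (t_refl : ∀ i, t i i le_rfl = RingHom.id _)
    (t_trans : ∀ i j k (hij : i ≤ j) (hjk : j ≤ k),
      (t j k hjk).comp (t i j hij) = t i k (hij.trans hjk))
    (f : ∀ i, R i →+* A.obj.right) (hfB : ∀ i, (f i).comp (a i) = A.obj.hom.hom)
    (hft : ∀ i j h, (f j).comp (t i j h) = f i)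
    (hsurj : ∀ x, ∃ i y, f i y = x)
    (hker : ∀ i y, f i y = 0 → ∃ j, ∃ h : i ≤ j, t i j h y = 0) :
    ∃ i, ∃ s : A.obj.right →+* R i, s.comp A.obj.hom.hom = a i ∧
      (f i).comp s = RingHom.id _ := by
  let D : ι ⥤ ObjectProperty.FullSubcategory fun Y : Under B => (p : Y.right) = 0 ∧
      Function.Bijective fun y : Y.right => y ^ p :=
    { obj := fun i => ⟨Under.mk (CommRingCat.ofHom (a i)), hR i⟩
      map := fun {i j} h => ObjectProperty.homMk
        (Under.homMk (CommRingCat.ofHom (t i j h.le)) (CommRingCat.hom_ext (htB i j h.le)))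
      map_id := fun i => InducedCategory.hom_ext (Under.UnderMorphism.ext
        (CommRingCat.hom_ext (t_refl i)))
      map_comp := fun {i j k} h h' => InducedCategory.hom_ext (Under.UnderMorphism.ext
        (CommRingCat.hom_ext (t_trans i j k h.le h'.le).symm)) }
  let c : Cocone D :=
    { pt := A
      ι := { app := fun i => ObjectProperty.homMk
              (Under.homMk (CommRingCat.ofHom (f i)) (CommRingCat.hom_ext (hfB i)))
             naturality := fun i j h => InducedCategory.hom_ext (Under.UnderMorphism.ext
              (CommRingCat.hom_ext (hft i j h.le))) } }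
  have key : ∀ i j y z, f i y = f j z → ∀ (s : Cocone D),
      (s.ι.app i).hom.right.hom y = (s.ι.app j).hom.right.hom z := by
    intro i j y z hyz s
    obtain ⟨k, hik, hjk⟩ := exists_ge_ge i j
    obtain ⟨l, hkl, hl⟩ := hker k (t i k hik y - t j k hjk z) (by
      rw [map_sub, ← RingHom.comp_apply, ← RingHom.comp_apply, hft, hft, hyz, sub_self])
    have w : ∀ (m : ι) (hm : m ≤ l) (x : R m),
        (s.ι.app m).hom.right.hom x = (s.ι.app l).hom.right.hom (t m l hm x) := fun m hm x =>
      (congrArg (fun g => g.hom.right.hom x) (s.w (homOfLE hm))).symm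
    rw [map_sub, sub_eq_zero, ← RingHom.comp_apply, ← RingHom.comp_apply, t_trans, t_trans] at hl
    rw [w i (hik.trans hkl) y, w j (hjk.trans hkl) z, hl]
  choose io yo hyo using hsurj
  let d (s : Cocone D) : A.obj.right →+* s.pt.obj.right :=
    have app : ∀ i y, (s.ι.app (io (f i y))).hom.right.hom (yo (f i y)) =
        (s.ι.app i).hom.right.hom y := fun i y => key _ _ _ _ (hyo _) s
    { toFun := fun x => (s.ι.app (io x)).hom.right.hom (yo x)
      map_one' := by
        obtain ⟨i⟩ := ‹Nonempty ι›
        have := app i 1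
        rwa [map_one, map_one] at this
      map_zero' := by
        obtain ⟨i⟩ := ‹Nonempty ι›
        have := app i 0
        rwa [map_zero, map_zero] at this
      map_mul' := fun x x' => by
        obtain ⟨k, h1, h2⟩ := exists_ge_ge (io x) (io x')
        have h := app k (t _ k h1 (yo x) * t _ k h2 (yo x'))
        rw [map_mul, map_mul, ← RingHom.comp_apply, ← RingHom.comp_apply, hft, hft, hyo, hyo] at h
        refine h.trans ?_
        congr 1
        · exact key _ _ _ _ (by rw [← RingHom.comp_apply, hft]) s
        · exact key _ _ _ _ (by rw [← RingHom.comp_apply, hft]) s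
      map_add' := fun x x' => by
        obtain ⟨k, h1, h2⟩ := exists_ge_ge (io x) (io x')
        have h := app k (t _ k h1 (yo x) + t _ k h2 (yo x'))
        rw [map_add, map_add, ← RingHom.comp_apply, ← RingHom.comp_apply, hft, hft, hyo, hyo] at h
        refine h.trans ?_
        congr 1
        · exact key _ _ _ _ (by rw [← RingHom.comp_apply, hft]) s
        · exact key _ _ _ _ (by rw [← RingHom.comp_apply, hft]) s }
  have hd : ∀ (s : Cocone D) i y, d s (f i y) = (s.ι.app i).hom.right.hom y :=
    fun s i y => key _ _ _ _ (hyo _) s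
  have hc : IsColimit c :=
    { desc := fun s => ObjectProperty.homMk (Under.homMk (CommRingCat.ofHom (d s))
        (CommRingCat.hom_ext (RingHom.ext fun b => by
          obtain ⟨i⟩ := ‹Nonempty ι›
          change d s (A.obj.hom.hom b) = s.pt.obj.hom.hom b
          rw [← hfB i, RingHom.comp_apply, hd]
          exact congrArg (fun g => g.hom b) (Under.w (s.ι.app i).hom))))
      fac := fun s i => InducedCategory.hom_ext (Under.UnderMorphism.ext
        (CommRingCat.hom_ext (RingHom.ext (hd s i))))
      uniq := fun s m hm => InducedCategory.hom_ext (Under.UnderMorphism.ext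
        (CommRingCat.hom_ext (RingHom.ext fun x => by
          change m.hom.right.hom x = d s x
          rw [← hyo x, hd, ← hm (io x)]
          rfl))) }
  have : IsFiltered ι := inferInstance
  obtain ⟨i, s, hs⟩ := IsFinitelyPresentable.exists_hom_of_isColimit hc (𝟙 A)
  exact ⟨i, s.hom.right.hom, congrArg CommRingCat.Hom.hom (Under.w s.hom),
    congrArg (fun g => g.hom.right.hom) hs⟩

end Groth.Agent.H27Perf
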