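import Groth.Agent.H27Perf.Props2
import Groth.Agent.H27Frob.EtaleClosure

/-!
# The perfection of an étale morphism is its base change
-/

set_option autoImplicit false
universe u

open CategoryTheory AlgebraicGeometry Limits FrobSch TopologicalSpace

namespace Groth.Agent.H27Perf

variable {p : ℕ} [hp : Fact p.Prime]

theorem isPerfect_of_cover {X : Scheme.{u}} [IsCharP X p] {ι : Type*} (U : ι → X.Opens)
    (hU : ⨆ i, U i = ⊤)
    (H : ∀ i, haveI : IsCharP (U i).toScheme p := IsCharP.of_hom (U i).ι p;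
      IsPerfect (U i).toScheme p) : IsPerfect X p := by
  refine IsZariskiLocalAtTarget.of_iSup_eq_top (P := MorphismProperty.isomorphisms Scheme) U hU
    fun i => ?_
  have : IsCharP (U i).toScheme p := IsCharP.of_hom (U i).ι p
  have : IsIso (frob (U i).toScheme p) := H i
  have e : frob (U i).toScheme p = frob X p ∣_ U i := by
    refine (cancel_mono (U i).ι).mp ?_
    refine (frob_comp p (U i).ι).trans ?_
    exact (morphismRestrict_ι (frob X p) (U i)).symm
  exact MorphismProperty.isomorphisms.iff _ |>.mpr (e ▸ this)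

theorem isPerfect_of_isAffineOpen {X : Scheme.{u}} [IsCharP X p] {U : X.Opens} (hU : IsAffineOpen U)
    (h : PerfR p Γ(X, U)) :
    haveI : IsCharP U.toScheme p := IsCharP.of_hom U.ι p; IsPerfect U.toScheme p := by
  have : IsCharP U.toScheme p := IsCharP.of_hom U.ι p
  have : IsCharP (Spec Γ(X, U)) p := isCharP_Spec_of_natCast h.1
  have : IsIso U.toSpecΓ := hU.isoSpec_hom ▸ inferInstance
  exact isPerfect_of_isIso U.toSpecΓ (isPerfect_Spec h)

theorem isPerfect_of_etale {P Y : Scheme.{u}} [IsCharP P p] [IsCharP Y p] (g : P ⟶ Y) [Etale g]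
    (hY : IsPerfect Y p) : IsPerfect P p := by
  refine isPerfect_of_cover
    (fun W : { VU : Y.affineOpens × P.affineOpens // VU.2.1 ≤ g ⁻¹ᵁ VU.1.1 } => W.1.2.1)
    (top_le_iff.mp fun x _ => ?_) fun W => ?_
  · obtain ⟨_, ⟨V, hV, rfl⟩, hxV, -⟩ :=
      Y.isBasis_affineOpens.exists_subset_of_mem_open (Set.mem_univ (g x)) isOpen_univ
    change Y.Opens at V
    obtain ⟨_, ⟨U, hU, rfl⟩, hxU, hUV⟩ :=
      P.isBasis_affineOpens.exists_subset_of_mem_open (show x ∈ g ⁻¹ᵁ V from hxV) (g ⁻¹ᵁ V).2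
    exact Opens.mem_iSup.mpr ⟨⟨(⟨V, hV⟩, ⟨U, hU⟩), hUV⟩, hxU⟩
  · obtain ⟨⟨V, U⟩, hUV⟩ := W
    exact isPerfect_of_isAffineOpen U.2 (Groth.Agent.H27Frob.perfR_of_etale_hom
      (g.appLE V.1 U.1 hUV).hom (HasRingHomProperty.appLE (P := @Etale) g ‹_› V U hUV)
      (perfR_sections hY V.1))

variable {X Y XP YP : Scheme.{u}} [IsCharP X p] [IsCharP Y p] [IsCharP XP p] [IsCharP YP p]
  {πX : XP ⟶ X} {πY : YP ⟶ Y} {f : X ⟶ Y} {fP : XP ⟶ YP}

theorem isPullback_of_etale (hX : IsPerfection πX p) (hY : IsPerfection πY p)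
    (w : fP ≫ πY = πX ≫ f) [Etale f] : IsPullback fP πX πY f :=
  have : IsCharP (pullback πY f) p := IsCharP.of_hom (pullback.fst πY f) p
  have : Etale (pullback.fst πY f) := MorphismProperty.pullback_fst πY f ‹_›
  isPullback_of_isPerfect hX hY w (isPerfect_of_etale (pullback.fst πY f) hY.1)

end Groth.Agent.H27Perf
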