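import Groth.Agent.H27Perf.Tower
import Groth.Agent.H7Lim.Approx.OverSystem
import Groth.Agent.H7Lim.Approx.Eventually
import Mathlib

/-!
# Perfectly finitely presented schemes over the prime field have models
-/

set_option autoImplicit false
set_option backward.isDefEq.respectTransparency false
set_option linter.style.haveILetI false

universe u

open CategoryTheory CategoryTheory.Limits AlgebraicGeometry Opposite TopologicalSpace FrobSch
open Groth.Agent.H27Perf.Tower Groth.Agent.H7Lim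

namespace Groth.Agent.H27Perf.Model

variable (p : ℕ) [hp : Fact p.Prime]

theorem fr_natural {A B : Scheme.{u}} [IsCharP A p] [IsCharP B p] (f : A ⟶ B) :
    ∀ n, fr p A n ≫ f = f ≫ fr p B n
  | 0 => (Category.id_comp f).trans (Category.comp_id f).symm
  | n + 1 => by
    change (fr p A n ≫ frob A p) ≫ f = f ≫ fr p B n ≫ frob B p
    rw [Category.assoc, frob_comp p f, reassoc_of% (fr_natural f n)]

theorem isIso_fr {A : Scheme.{u}} [IsCharP A p] (h : IsPerfect A p) : ∀ n, IsIso (fr p A n)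
  | 0 => inferInstanceAs (IsIso (𝟙 A))
  | n + 1 => by
    haveI := isIso_fr h n
    haveI : IsIso (frob A p) := h
    exact inferInstanceAs (IsIso (fr p A n ≫ frob A p))

theorem exists_perfection (X : Scheme.{u}) [IsCharP X p] :
    ∃ (P : Scheme.{u}) (_ : IsCharP P p) (π : P ⟶ X), IsPerfection π p := by
  obtain ⟨c, hc, -⟩ := Approx.exists_isLimit_affine (diag p X)
  haveI : IsCharP c.pt p := IsCharP.of_hom (pr c 0) p
  exact ⟨c.pt, inferInstance, pr c 0, isPerfection_limit hc⟩

/-- Maps from an arbitrary scheme into a perfection are detected by all Frobenius shifts. -/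
theorem hom_ext_arbitrary {X P : Scheme.{u}} [IsCharP X p] [IsCharP P p] {π : P ⟶ X}
    (hπ : IsPerfection π p) {W : Scheme.{u}} {g g' : W ⟶ P}
    (h : ∀ n, g ≫ @inv _ _ _ _ (fr p P n) (isIso_fr p hπ.1 n) ≫ π =
      g' ≫ @inv _ _ _ _ (fr p P n) (isIso_fr p hπ.1 n) ≫ π) : g = g' := by
  obtain ⟨c, hc, e, he⟩ := exists_limit hπ
  rw [← cancel_mono e.hom]
  refine hc.hom_ext fun i => ?_
  have key : ∀ n, e.hom ≫ pr c n = @inv _ _ _ _ (fr p P n) (isIso_fr p hπ.1 n) ≫ π := fun n => by
    haveI := isIso_fr p hπ.1 n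
    rw [IsIso.eq_inv_comp, fr_natural p (e.hom ≫ pr c n) n, Category.assoc, cone_fr, ← he]
  change (g ≫ e.hom) ≫ pr c (lvl i) = (g' ≫ e.hom) ≫ pr c (lvl i)
  rw [Category.assoc, Category.assoc, key]
  exact h _

/-- `Spec` of the prime field. -/
noncomputable abbrev baseFp : Scheme.{u} := Spec (CommRingCat.of (ULift.{u} (ZMod p)))

omit hp in
theorem toBase_unique {Y : Scheme.{u}} (a b : Y ⟶ baseFp p) : a = b := by
  apply ext_of_isAffine
  apply (cancel_epi (Scheme.ΓSpecIso (CommRingCat.of (ULift.{u} (ZMod p)))).inv).1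
  apply CommRingCat.hom_ext
  apply RingHom.ext
  intro x
  have := RingHom.ext_zmod
    ((((Scheme.ΓSpecIso (CommRingCat.of (ULift.{u} (ZMod p)))).inv ≫ a.appTop).hom).comp
      (ULift.ringEquiv (R := ZMod p)).symm.toRingHom)
    ((((Scheme.ΓSpecIso (CommRingCat.of (ULift.{u} (ZMod p)))).inv ≫ b.appTop).hom).comp
      (ULift.ringEquiv (R := ZMod p)).symm.toRingHom)
  exact congr($this x.down)

omit hp in
theorem exists_toBase (Y : Scheme.{u}) [IsCharP Y p] : Nonempty (Y ⟶ baseFp p) := by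
  haveI : CharP Γ(Y, ⊤) (ringChar Γ(Y, ⊤)) := ringChar.charP _
  have hd : ringChar Γ(Y, ⊤) ∣ p := (ringChar.spec Γ(Y, ⊤) p).1 IsCharP.natCast_eq_zero
  exact ⟨Y.toSpecΓ ≫ Spec.map (CommRingCat.ofHom
    ((ZMod.castHom hd Γ(Y, ⊤)).comp (ULift.ringEquiv (R := ZMod p)).toRingHom))⟩

/-- The compactness condition. -/
def Compact' (X : Scheme.{u}) : Prop :=
  ∀ (J : Type u) [SmallCategory J] [IsCofiltered J] (F : J ⥤ Scheme.{u})
      [∀ j, FrobSch.IsCharP (F.obj j) p] (c : Cone F) [FrobSch.IsCharP c.pt p], IsLimit c →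
      (∀ ⦃i j : J⦄ (a : i ⟶ j), IsAffineHom (F.map a)) →
      (∀ j, FrobSch.IsPerfect (F.obj j) p ∧ CompactSpace (F.obj j) ∧ QuasiSeparatedSpace (F.obj j)) →
      FrobSch.IsPerfect c.pt p → CompactSpace c.pt → QuasiSeparatedSpace c.pt →
      (∀ g : c.pt ⟶ X, ∃ (j : J) (gj : F.obj j ⟶ X), c.π.app j ≫ gj = g) ∧
      (∀ (j : J) (g g' : F.obj j ⟶ X), c.π.app j ≫ g = c.π.app j ≫ g' →
        ∃ (k : J) (a : k ⟶ j), F.map a ≫ g = F.map a ≫ g')

/-- A compact perfect scheme is a retract of the perfection of a scheme of finite presentation. -/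
theorem exists_retract (X : Scheme.{u}) [IsCharP X p] [CompactSpace X] [QuasiSeparatedSpace X]
    (hX : IsPerfect X p) (hc : Compact' p X) :
    ∃ (X₁ P : Scheme.{u}) (_ : IsCharP X₁ p) (_ : IsCharP P p) (s : X₁ ⟶ baseFp p) (π : P ⟶ X₁),
      LocallyOfFinitePresentation s ∧ CompactSpace X₁ ∧ QuasiSeparatedSpace X₁ ∧ IsPerfection π p ∧
      ∃ (l : X ⟶ P) (r : P ⟶ X), l ≫ r = 𝟙 X := by
  obtain ⟨f⟩ := exists_toBase p X
  obtain ⟨I, _, _, _, D, c, hcl, hfp, haff, ⟨e⟩⟩ := Approx.exists_fp_system f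
  haveI : IsCharP (baseFp.{u} p) p := by
    haveI : CharP (ULift.{u} (ZMod p)) p := inferInstance
    infer_instance
  let D₀ : Iᵒᵖ ⥤ Scheme.{u} := D ⋙ Over.forget _
  haveI hD₀ : ∀ i, IsCharP (D₀.obj i) p := fun i => IsCharP.of_hom (D.obj i).hom p
  obtain ⟨hlim⟩ := Approx.nonempty_isLimit_forget hcl
  let eX : X ≅ c.pt.left := ((Over.forget _).mapIso e).symm
  let q : ∀ i, X ⟶ D₀.obj i := fun i => eX.hom ≫ (c.π.app i).left
  let cX : Cone D₀ :=
    { pt := X
      π := { app := q
             naturality := fun i j a => by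
              have h := congrArg (fun k : c.pt ⟶ D.obj j => eX.hom ≫ Over.Hom.left k) (c.w a)
              refine (Category.id_comp _).trans (h.symm.trans ?_)
              change eX.hom ≫ ((c.π.app i).left ≫ (D.map a).left) = (eX.hom ≫ (c.π.app i).left) ≫ (D.map a).left
              rw [Category.assoc] } }
  let hcX : IsLimit cX := hlim.ofIsoLimit
    (Cone.ext eX.symm fun i => (Iso.inv_hom_id_assoc eX _).symm)
  choose P hP π hπ using fun i => exists_perfection p (D₀.obj i)
  haveI := hP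
  have hm : ∀ {i j : Iᵒᵖ} (a : i ⟶ j), ∃ m : P i ⟶ P j, m ≫ π j = π i ≫ D₀.map a := fun {i j} a =>
    IsPerfection.exists_lift (hπ j) (hπ i).1 _
  let m : ∀ {i j : Iᵒᵖ}, (i ⟶ j) → (P i ⟶ P j) := fun a => (hm a).choose
  have hm' : ∀ {i j : Iᵒᵖ} (a : i ⟶ j), m a ≫ π j = π i ≫ D₀.map a := fun a => (hm a).choose_spec
  let F : Iᵒᵖ ⥤ Scheme.{u} :=
    { obj := P
      map := fun a => m a
      map_id := fun i => IsPerfection.ext (hπ i) (hπ i).1 (by simp [hm'])
      map_comp := fun {i j k} a b => IsPerfection.ext (hπ k) (hπ i).1 (by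
        rw [hm', Category.assoc, hm', reassoc_of% (hm' a), Functor.map_comp]) }
  haveI : ∀ j, IsCharP (F.obj j) p := hP
  choose l hl using fun i => IsPerfection.exists_lift (hπ i) hX (q i)
  let cP : Cone F :=
    { pt := X
      π := { app := l
             naturality := fun i j a => IsPerfection.ext (hπ j) hX (by
              change (𝟙 X ≫ l j) ≫ π j = (l i ≫ m a) ≫ π j
              rw [Category.id_comp, Category.assoc, hm', hl, ← Category.assoc, hl]
              exact ((cX.w a)).symm) } }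
  haveI : IsCharP cP.pt p := ‹IsCharP X p›
  haveI hπa : ∀ i, IsAffineHom (π i) := fun i => IsPerfection.isAffineHom (hπ i)
  let sq : ∀ (s : Cone F) (n : ℕ), Cone D₀ := fun s n =>
    { pt := s.pt
      π := { app := fun i => s.π.app i ≫ @inv _ _ _ _ (fr p (P i) n) (isIso_fr p (hπ i).1 n) ≫ π i
             naturality := fun i j a => by
              haveI := isIso_fr p (hπ i).1 n
              haveI := isIso_fr p (hπ j).1 n
              have h1 : m a ≫ inv (fr p (P j) n) = inv (fr p (P i) n) ≫ m a := by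
                rw [IsIso.eq_inv_comp, ← Category.assoc, fr_natural p (m a) n, Category.assoc,
                  IsIso.hom_inv_id, Category.comp_id]
              change 𝟙 _ ≫ _ = _
              rw [Category.id_comp, ← s.w a]
              change (s.π.app i ≫ m a) ≫ _ = (s.π.app i ≫ _) ≫ D₀.map a
              rw [Category.assoc, reassoc_of% h1, hm']
              simp only [Category.assoc] } }
  have hlimP : IsLimit cP :=
    { lift := fun s => hcX.lift (sq s 0)
      fac := fun s i => hom_ext_arbitrary p (hπ i) fun n => by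
        haveI := isIso_fr p (hπ i).1 n
        haveI := isIso_fr p hX n
        have h0 : hcX.lift (sq s n) ≫ fr p X n = hcX.lift (sq s 0) := hcX.hom_ext fun k => by
          haveI := isIso_fr p (hπ k).1 n
          have h2 : fr p X n ≫ cX.π.app k = cX.π.app k ≫ fr p (D₀.obj k) n := fr_natural p (q k) n
          rw [Category.assoc, h2, ← Category.assoc, hcX.fac, hcX.fac]
          haveI := isIso_fr p (hπ k).1 0
          have h3 : inv (fr p (P k) n) ≫ π k ≫ fr p (D₀.obj k) n = inv (fr p (P k) 0) ≫ π k := by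
            rw [← fr_natural p (π k) n, IsIso.inv_hom_id_assoc]
            rw [IsIso.eq_inv_comp]
            exact Category.id_comp _
          change (s.π.app k ≫ inv (fr p (P k) n) ≫ π k) ≫ fr p (D₀.obj k) n = s.π.app k ≫ inv (fr p (P k) 0) ≫ π k
          rw [Category.assoc, Category.assoc, h3]
        have h4 : l i ≫ inv (fr p (P i) n) ≫ π i = inv (fr p X n) ≫ q i := by
          rw [IsIso.eq_inv_comp, ← Category.assoc, fr_natural p (l i) n, Category.assoc,
            IsIso.hom_inv_id_assoc, hl]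
        change (hcX.lift (sq s 0) ≫ l i) ≫ _ = _
        rw [Category.assoc, h4, ← h0, Category.assoc, IsIso.hom_inv_id_assoc]
        exact hcX.fac (sq s n) i
      uniq := fun s g hg => hcX.hom_ext fun i => by
        haveI := isIso_fr p (hπ i).1 0
        rw [hcX.fac]
        change g ≫ q i = s.π.app i ≫ inv (fr p (P i) 0) ≫ π i
        rw [← hl i, ← Category.assoc, ← hg i]
        congr 1
        rw [IsIso.eq_inv_comp]
        exact Category.id_comp _ }
  have hFaff : ∀ ⦃i j : Iᵒᵖ⦄ (a : i ⟶ j), IsAffineHom (F.map a) := by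
    intro i j a
    haveI : IsAffineHom (D₀.map a) := haff i j a
    haveI : IsAffineHom (m a ≫ π j) := by rw [hm']; infer_instance
    exact MorphismProperty.of_postcomp @IsAffineHom (m a) (π j)
      (show IsSeparated _ from inferInstance) ‹_›
  have hFobj : ∀ j, IsPerfect (F.obj j) p ∧ CompactSpace (F.obj j) ∧ QuasiSeparatedSpace (F.obj j) := by
    intro j
    haveI : CompactSpace (D₀.obj j) := (hfp j).2.2.2.1
    haveI : QuasiSeparatedSpace (D₀.obj j) := (hfp j).2.2.2.2
    exact ⟨(hπ j).1, QuasiCompact.compactSpace_of_compactSpace (π j),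
      quasiSeparatedSpace_of_quasiSeparated (π j)⟩
  obtain ⟨j, r, hr⟩ := (hc Iᵒᵖ F cP hlimP hFaff hFobj hX ‹_› ‹_›).1 (𝟙 X)
  exact ⟨D₀.obj j, P j, inferInstance, inferInstance, (D.obj j).hom, π j, (hfp j).1, (hfp j).2.2.2.1,
    (hfp j).2.2.2.2, hπ j, l j, r, hr⟩

theorem exists_model (X : Scheme.{u}) [IsCharP X p] [CompactSpace X] [QuasiSeparatedSpace X]
    (hX : IsPerfect X p) (hc : Compact' p X) :
    ∃ (X0 : Scheme.{u}) (s : X0 ⟶ baseFp p) (_ : LocallyOfFinitePresentation s)
      (_ : CompactSpace X0) (_ : QuasiSeparatedSpace X0) (π : X ⟶ X0), FrobSch.IsPerfection π p := by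
  obtain ⟨X₁, P, _, _, s₁, π₁, hs₁, hX₁c, hX₁q, hπ₁, l, r, hlr⟩ := exists_retract p X hX hc
  haveI := hs₁
  haveI := hX₁c
  haveI := hX₁q
  obtain ⟨c, hcl, e, he⟩ := exists_limit hπ₁
  -- descend the idempotent
  let t : diag p X₁ ⟶ (Functor.const Idx.{u}).obj (baseFp p) :=
    { app := fun _ => s₁, naturality := fun i j f => toBase_unique p _ _ }
  haveI : ∀ i, CompactSpace ((diag p X₁).obj i) := fun _ => hX₁c
  haveI : ∀ i, QuasiSeparatedSpace ((diag p X₁).obj i) := fun _ => hX₁q
  obtain ⟨i, e₀, he₀, -⟩ := Scheme.exists_π_app_comp_eq_of_locallyOfFinitePresentation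
    (diag p X₁) t s₁ c hcl (e.inv ≫ r ≫ l ≫ π₁) (by
      ext j
      exact toBase_unique p _ _)
  let m := lvl i
  let e₁ : X₁ ⟶ X₁ := e₀
  have hm : π₁ ≫ e₁ = fr p P m ≫ r ≫ l ≫ π₁ := by
    have h1 : pr c m ≫ e₁ = e.inv ≫ r ≫ l ≫ π₁ := he₀
    have h2 : π₁ = fr p P m ≫ e.hom ≫ pr c m := by
      rw [fr_natural p (e.hom ≫ pr c m) m, Category.assoc, cone_fr, ← he]
    conv_lhs => rw [h2]
    rw [Category.assoc, Category.assoc, h1, Iso.hom_inv_id_assoc]
  -- the equalizer of `e₁` and the Frobenius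
  let d : X₁ ⟶ pullback s₁ s₁ := pullback.lift e₁ (fr p X₁ m) (toBase_unique p _ _)
  let X0 := pullback (pullback.diagonal s₁) d
  let i0 : X0 ⟶ X₁ := pullback.snd (pullback.diagonal s₁) d
  haveI : QuasiSeparated s₁ := inferInstance
  haveI : QuasiCompact i0 := MorphismProperty.pullback_snd _ _ inferInstance
  haveI : IsImmersion i0 := MorphismProperty.pullback_snd _ _ inferInstance
  haveI : IsNoetherianRing (ULift.{u} (ZMod p)) :=
    isNoetherianRing_of_ringEquiv (ZMod p) (ULift.ringEquiv (R := ZMod p)).symm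
  haveI : IsNoetherian (baseFp.{u} p) := inferInstance
  have hX0 : CompactSpace X0 := QuasiCompact.compactSpace_of_compactSpace i0
  have hX0q : QuasiSeparatedSpace X0 := quasiSeparatedSpace_of_quasiSeparated i0
  haveI : LocallyOfFiniteType (i0 ≫ s₁) := inferInstance
  have hlfp : LocallyOfFinitePresentation (i0 ≫ s₁) :=
    Groth.Agent.H18HTop.locallyOfFinitePresentation_of_noetherian _
  haveI : IsCharP X0 p := IsCharP.of_hom i0 p
  have hb : (l ≫ π₁) ≫ e₁ = (l ≫ π₁) ≫ fr p X₁ m := by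
    rw [Category.assoc, hm, ← Category.assoc l, ← fr_natural p l m, Category.assoc,
      reassoc_of% hlr, fr_natural p (l ≫ π₁) m]
  let π : X ⟶ X0 := pullback.lift ((l ≫ π₁) ≫ fr p X₁ m) (l ≫ π₁) (by
    apply pullback.hom_ext
    · rw [Category.assoc, pullback.diagonal_fst, Category.comp_id]
      refine hb.symm.trans ?_
      simp [d]
    · rw [Category.assoc, pullback.diagonal_snd, Category.comp_id]
      simp [d])
  have hπi : π ≫ i0 = l ≫ π₁ := pullback.lift_snd _ _ _
  refine ⟨X0, i0 ≫ s₁, hlfp, hX0, hX0q, π, hX, fun W _ hW => ⟨fun g g' h => ?_, fun w => ?_⟩⟩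
  · have h' : (g ≫ l) ≫ π₁ = (g' ≫ l) ≫ π₁ := by
      rw [Category.assoc, Category.assoc, ← hπi, ← Category.assoc, ← Category.assoc]
      exact congrArg (· ≫ i0) h
    have h'' := congrArg (· ≫ r) (IsPerfection.ext hπ₁ hW h')
    simpa [hlr] using h''
  · obtain ⟨G, hG⟩ := IsPerfection.exists_lift hπ₁ hW (w ≫ i0)
    let a : X0 ⟶ X₁ := pullback.fst (pullback.diagonal s₁) d
    have ha₁ : a = i0 ≫ e₁ := by
      have := congrArg (· ≫ pullback.fst s₁ s₁) (pullback.condition (f := pullback.diagonal s₁) (g := d))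
      simpa [d, a, i0] using this
    have ha₂ : a = i0 ≫ fr p X₁ m := by
      have := congrArg (· ≫ pullback.snd s₁ s₁) (pullback.condition (f := pullback.diagonal s₁) (g := d))
      simpa [d, a, i0] using this
    haveI := isIso_fr p hW m
    have h1 : G ≫ r ≫ l ≫ π₁ = G ≫ π₁ := by
      rw [← cancel_epi (fr p W m), ← Category.assoc, fr_natural p G m, Category.assoc, ← hm,
        ← Category.assoc (fr p W m), fr_natural p G m, Category.assoc, fr_natural p π₁ m,
        ← Category.assoc, hG, ← Category.assoc, hG, Category.assoc, ← ha₁, Category.assoc, ← ha₂]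
    have hi : (G ≫ r ≫ π) ≫ i0 = w ≫ i0 := by
      rw [Category.assoc, Category.assoc, hπi, h1, hG]
    refine ⟨G ≫ r, ?_⟩
    change (G ≫ r) ≫ π = w
    rw [Category.assoc]
    refine pullback.hom_ext ?_ hi
    change (G ≫ r ≫ π) ≫ a = w ≫ a
    rw [ha₁, ← Category.assoc, hi, Category.assoc]

end Groth.Agent.H27Perf.Model
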