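import Groth.Prelude.Def_W4c1imperftorsorsPerf
import Mathlib

/-! # A preperfection that collapses to the base -/

set_option autoImplicit false
set_option linter.unusedSectionVars false

noncomputable section

universe u v

namespace Groth.Agent.H27Perf.NodeTwist

open TensorProduct W4c1imperftorsors Polynomial

variable (p : ℕ) [Fact p.Prime] {R : Type u} [CommRing R] [CharP R p]

section lift

variable {B : Type v} [CommRing B] [Algebra R B] {T : Type u} [CommRing T] [Algebra R T]

/-- A map out of a Frobenius twist from a semilinear ring map. -/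
theorem exists_twist_lift (i : ℕ) (g : B →+* T)
    (hg : ∀ r : R, g (algebraMap R B r) = algebraMap R T (r ^ p ^ i)) :
    ∃ φ : Twist p R B i →+* T, (∀ r : R, φ (algebraMap R _ r) = algebraMap R T r) ∧
      ∀ b : B, φ ((1 : R) ⊗ₜ (aEquiv p R B i).symm b) = g b := by
  letI : Algebra (Src p R i) T := ((algebraMap R T).comp (algebraMap (Src p R i) R)).toAlgebra
  let f₁ : R →ₐ[Src p R i] T := { algebraMap R T with commutes' := fun s => rfl }
  let f₂ : ASrc p R B i →ₐ[Src p R i] T :=
    { g.comp (aEquiv p R B i : ASrc p R B i →+* B) with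
      commutes' := fun s => by
        show g (aEquiv p R B i (algebraMap (Src p R i) (ASrc p R B i) s)) =
          algebraMap R T (algebraMap (Src p R i) R s)
        rw [algebraMap_aSrc, RingEquiv.apply_symm_apply, hg, algebraMap_src] }
  refine ⟨(Algebra.TensorProduct.lift f₁ f₂ fun _ _ => Commute.all _ _).toRingHom, fun r => ?_, fun b => ?_⟩
  · show Algebra.TensorProduct.lift f₁ f₂ (fun _ _ => Commute.all _ _) (algebraMap R _ r) = _
    rw [Algebra.TensorProduct.algebraMap_apply, Algebra.TensorProduct.lift_tmul, map_one, mul_one]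
    rfl
  · show Algebra.TensorProduct.lift f₁ f₂ (fun _ _ => Commute.all _ _) _ = _
    rw [Algebra.TensorProduct.lift_tmul, map_one, one_mul]
    rfl

end lift

theorem bijective_prePerf {B : Type v} [CommRing B] [Algebra R B] [CharP B p] (hp : p ≠ 2) (u v : R)
    (huv : u * v = 0)
    (hsep : ∀ N : ℕ, 1 ≤ N → ∀ g : R,
      (∀ n : ℕ, g ∈ Ideal.span {v ^ n} ⊔ Ideal.span {u ^ N}) → g ∈ Ideal.span {u ^ N})
    (α : B) (hα : α ^ 2 = algebraMap R B (v ^ 2)) (huα : algebraMap R B u * α = 0)
    (hgen : ∀ b : B, ∃ a c : R, b = algebraMap R B a + algebraMap R B c * α)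
    (hev : ∃ e : B →+* R, (∀ r, e (algebraMap R B r) = r) ∧ e α = v)
    (hT : ∀ i : ℕ, ∃ (T : Type u) (_ : CommRing T) (_ : Algebra R T) (g : B →+* T) (x : T),
      (∀ r : R, g (algebraMap R B r) = algebraMap R T (r ^ p ^ i)) ∧ g α = x ∧
      ∀ a : R, algebraMap R T a * (x - algebraMap R T (v ^ p ^ i)) = 0 → a ∈ Ideal.span {u ^ p ^ i}) :
    Function.Bijective (algebraMap R ↥(prePerf p R B)) := by
  obtain ⟨e, heR, heα⟩ := hev
  have hq : ∀ i : ℕ, 1 ≤ p ^ i := fun i => Nat.one_le_pow _ _ (Fact.out : p.Prime).pos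
  have hε : ∀ i, ∃ φ : Twist p R B i →+* R, (∀ r : R, φ (algebraMap R _ r) = r) ∧
      ∀ b : B, φ ((1 : R) ⊗ₜ (aEquiv p R B i).symm b) = e b ^ p ^ i := fun i =>
    exists_twist_lift p i ((iterateFrobenius R p i).comp e) fun r => by
      rw [RingHom.comp_apply, heR, iterateFrobenius_def, Algebra.algebraMap_self, RingHom.id_apply]
  choose ε hεR hεB using hε
  let αt : ∀ i, Twist p R B i := fun i => (1 : R) ⊗ₜ (aEquiv p R B i).symm α
  have htw : ∀ i (r : R), ((1 : R) ⊗ₜ (aEquiv p R B i).symm (algebraMap R B r) : Twist p R B i) =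
      algebraMap R _ (r ^ p ^ i) := fun i r => by
    rw [show (aEquiv p R B i).symm (algebraMap R B r) =
      ((srcEquiv p R i).symm r : Src p R i) • (1 : ASrc p R B i) by
        rw [← Algebra.algebraMap_eq_smul_one, algebraMap_aSrc, RingEquiv.apply_symm_apply],
      ← TensorProduct.smul_tmul, ← Algebra.algebraMap_eq_smul_one, algebraMap_src, RingEquiv.apply_symm_apply,
      Algebra.TensorProduct.algebraMap_apply, Algebra.algebraMap_self, RingHom.id_apply]
  have hmulA : ∀ i (r : R) (b : B), algebraMap R (Twist p R B i) r * (1 : R) ⊗ₜ (aEquiv p R B i).symm b =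
      r ⊗ₜ (aEquiv p R B i).symm b := fun i r b => by
    rw [Algebra.TensorProduct.algebraMap_apply, Algebra.algebraMap_self, RingHom.id_apply,
      Algebra.TensorProduct.tmul_mul_tmul, mul_one, one_mul]
  have hsum : ∀ i (z : Twist p R B i), ∃ a c : R, z = algebraMap R _ a + algebraMap R _ c * αt i := by
    intro i z
    induction z using TensorProduct.induction_on with
    | zero => exact ⟨0, 0, by simp⟩
    | tmul r b =>
      obtain ⟨a, c, hac⟩ := hgen (aEquiv p R B i b)
      have hb : b = (aEquiv p R B i).symm (aEquiv p R B i b) := (RingEquiv.symm_apply_apply _ _).symm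
      refine ⟨r * a ^ p ^ i, r * c ^ p ^ i, ?_⟩
      rw [hb, hac, ← hmulA, map_add, TensorProduct.tmul_add, mul_add, htw, ← map_mul]
      congr 1
      rw [map_mul (algebraMap R (Twist p R B i)) r, ← htw, mul_assoc, Algebra.TensorProduct.tmul_mul_tmul, mul_one,
        map_mul]
    | add x y hx hy =>
      obtain ⟨a, c, rfl⟩ := hx
      obtain ⟨a', c', rfl⟩ := hy
      exact ⟨a + a', c + c', by rw [map_add, map_add]; ring⟩
  let β : ∀ i, Twist p R B i := fun i => αt i - algebraMap R _ (v ^ p ^ i)
  have huβ : ∀ i, algebraMap R (Twist p R B i) (u ^ p ^ i) * β i = 0 := fun i => by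
    rw [show β i = αt i - algebraMap R _ (v ^ p ^ i) from rfl, mul_sub, ← map_mul, ← mul_pow, huv,
      zero_pow (by have := hq i; omega), map_zero, sub_zero, ← htw,
      Algebra.TensorProduct.tmul_mul_tmul, mul_one, ← map_mul, huα, map_zero, TensorProduct.tmul_zero]
  have hann : ∀ i (a : R), algebraMap R (Twist p R B i) a * β i = 0 → a ∈ Ideal.span {u ^ p ^ i} := by
    intro i a ha
    obtain ⟨T, hT1, hT2, g, x, hgR, hgα, hx⟩ := hT i
    obtain ⟨φ, hφR, hφB⟩ := exists_twist_lift p i g hgR
    refine hx a ?_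
    have := congrArg φ ha
    rwa [map_mul, map_zero, map_sub, hφR, hφB, hφR, hgα] at this
  obtain ⟨m, hm⟩ : ∃ m, p = 2 * m + 1 := (Fact.out : p.Prime).odd_of_ne_two hp
  have hm1 : 1 ≤ m := by have := (Fact.out : p.Prime).two_le; omega
  have hF : ∀ i, relFrob p R B i (β (i + 1)) = algebraMap R _ (v ^ (p ^ i * (2 * m))) * β i := by
    intro i
    have h1 : relFrob p R B i (αt (i + 1)) = algebraMap R _ (v ^ (p ^ i * (2 * m))) * αt i := by
      show relFrobAux p R B i _ = _
      rw [relFrobAux, Algebra.TensorProduct.lift_tmul, map_one, one_mul]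
      show ((1 : R) ⊗ₜ (aEquiv p R B i).symm (frobenius B p (aEquiv p R B (i + 1) ((aEquiv p R B (i+1)).symm α))) :
        Twist p R B i) = _
      rw [RingEquiv.apply_symm_apply, frobenius_def]
      rw [show α ^ p = algebraMap R B (v ^ (2 * m)) * α by
          rw [hm, pow_succ, pow_mul, hα, ← map_pow, ← pow_mul], map_mul]
      rw [show v ^ (p ^ i * (2 * m)) = (v ^ (2 * m)) ^ p ^ i by rw [← pow_mul, mul_comm], ← htw,
        Algebra.TensorProduct.tmul_mul_tmul, mul_one]
    show relFrob p R B i (αt (i + 1) - algebraMap R _ (v ^ p ^ (i + 1))) = _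
    rw [map_sub, h1, AlgHom.commutes, mul_sub, ← map_mul, ← pow_add, pow_succ p i,
      show p ^ i * (2 * m) + p ^ i = p ^ i * p by rw [hm]; ring]
  have hεF : ∀ i (z : Twist p R B (i + 1)), ε i (relFrob p R B i z) = ε (i + 1) z := by
    intro i z
    obtain ⟨a, c, rfl⟩ := hsum (i + 1) z
    have hα' : αt (i + 1) = β (i + 1) + algebraMap R _ (v ^ p ^ (i + 1)) := (sub_add_cancel _ _).symm
    have hβ0 : ∀ j, ε j (β j) = 0 := fun j => by
      show ε j (αt j - algebraMap R _ (v ^ p ^ j)) = 0
      rw [map_sub, hεR, hεB, heα, sub_self]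
    rw [hα', map_add, map_add, map_mul, map_add, AlgHom.commutes, AlgHom.commutes, AlgHom.commutes, hF]
    simp only [map_add, map_mul, hεR, hβ0, mul_zero, zero_add]
  constructor
  · intro a b hab
    have := congrArg (fun z : ↥(prePerf p R B) => ε 0 ((z : Π j, Twist p R B j) 0)) hab
    simpa only [Subalgebra.coe_algebraMap, Pi.algebraMap_apply, hεR] using this
  · rintro ⟨x, hx⟩
    have hx' : ∀ j, relFrob p R B j (x (j + 1)) = x j := by
      intro j
      rw [prePerf, Algebra.mem_iInf] at hx
      exact hx j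
    refine ⟨ε 0 (x 0), Subtype.ext (funext fun i => ?_)⟩
    show algebraMap R (Twist p R B i) (ε 0 (x 0)) = x i
    set r := ε 0 (x 0) with hr
    have hconst : ∀ j, ε j (x j) = r := fun j => by
      induction j with
      | zero => rfl
      | succ j ih => rw [← hεF, hx', ih]
    have hform : ∀ n j, ∃ c : R, x j = algebraMap R _ r + algebraMap R _ (c * v ^ n) * β j := by
      intro n
      induction n with
      | zero =>
        intro j
        obtain ⟨a, c, hac⟩ := hsum j (x j)
        refine ⟨c, ?_⟩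
        have h := hconst j
        rw [hac, map_add, map_mul, hεR, hεR, hεB, heα] at h
        rw [hac, pow_zero, mul_one, ← h, map_add, map_mul]
        show _ = _ + _ * (αt j - algebraMap R _ (v ^ p ^ j))
        ring
      | succ n ih =>
        intro j
        obtain ⟨c, hc⟩ := ih (j + 1)
        refine ⟨c * v ^ (p ^ j * (2 * m) - 1), ?_⟩
        rw [← hx' j, hc, map_add, map_mul, AlgHom.commutes, AlgHom.commutes, hF, ← mul_assoc, ← map_mul]
        have : 1 ≤ p ^ j * (2 * m) := Nat.one_le_iff_ne_zero.mpr (by have := hq j; positivity)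
        congr 3
        rw [mul_assoc, mul_assoc, ← pow_add, ← pow_add]
        congr 2
        omega
    obtain ⟨c, hc⟩ := hform 0 i
    rw [pow_zero, mul_one] at hc
    have hcu : c ∈ Ideal.span {u ^ p ^ i} := by
      refine hsep _ (hq i) c fun n => ?_
      obtain ⟨c', hc'⟩ := hform n i
      have hd : c - c' * v ^ n ∈ Ideal.span {u ^ p ^ i} := by
        refine hann i _ ?_
        rw [map_sub, sub_mul, sub_eq_zero]
        exact add_left_cancel (hc.symm.trans hc')
      rw [Submodule.mem_sup]
      exact ⟨c' * v ^ n, Ideal.mul_mem_left _ _ (Ideal.mem_span_singleton_self _), c - c' * v ^ n, hd, by ring⟩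
    obtain ⟨w, rfl⟩ := Ideal.mem_span_singleton.mp hcu
    rw [hc, mul_comm (u ^ p ^ i), map_mul, mul_assoc, huβ, mul_zero, add_zero]

end Groth.Agent.H27Perf.NodeTwist
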