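import Mathlib

namespace Groth.Agent.H27Perf

open TensorProduct

universe u v w x

variable {R : Type u} [CommRing R] {M : Type v} [AddCommGroup M] [Module R M]
  {ι : Type w} {N : ι → Type x} [∀ i, AddCommGroup (N i)] [∀ i, Module R (N i)]

/-- Contraction by a functional. -/
noncomputable def ctr (φ : M →ₗ[R] R) (L : Type*) [AddCommGroup L] [Module R L] : M ⊗[R] L →ₗ[R] L :=
  (TensorProduct.lid R L).toLinearMap ∘ₗ φ.rTensor L

theorem ctr_natural (φ : M →ₗ[R] R) {L L' : Type*} [AddCommGroup L] [Module R L] [AddCommGroup L']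
    [Module R L'] (f : L →ₗ[R] L') (z : M ⊗[R] L) : ctr φ L' (f.lTensor M z) = f (ctr φ L z) := by
  induction z using TensorProduct.induction_on with
  | zero => simp
  | tmul m l => simp [ctr]
  | add a b ha hb => simp [ha, hb]

theorem eq_zero_of_ctr [Module.Projective R M] {L : Type*} [AddCommGroup L] [Module R L] (z : M ⊗[R] L)
    (h : ∀ φ, ctr φ L z = 0) : z = 0 := by
  classical
  obtain ⟨s, hs⟩ := Module.projective_def'.mp (inferInstance : Module.Projective R M)
  have h1 : s.rTensor L z = 0 := by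
    apply (TensorProduct.finsuppScalarLeft R L M).injective
    rw [map_zero]
    refine Finsupp.ext fun j => ?_
    have h2 : ∀ y : M ⊗[R] L, TensorProduct.finsuppScalarLeft R L M (s.rTensor L y) j =
        ctr (Finsupp.lapply j ∘ₗ s) L y := by
      intro y
      induction y using TensorProduct.induction_on with
      | zero => simp
      | tmul m l => simp [ctr]
      | add a b ha hb => simp [ha, hb]
    rw [h2, h]; rfl
  have := congrArg ((Finsupp.linearCombination R (id : M → M)).rTensor L) h1
  rw [map_zero, ← LinearMap.rTensor_comp_apply, hs, LinearMap.rTensor_id] at this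
  exact this

theorem injective_pi_tensor [Module.Projective R M] (S : Submodule R (∀ i, N i)) :
    Function.Injective (LinearMap.pi fun i => ((LinearMap.proj i) ∘ₗ S.subtype).lTensor M :
      M ⊗[R] S →ₗ[R] ∀ i, M ⊗[R] N i) := by
  rw [injective_iff_map_eq_zero]
  intro z hz
  refine eq_zero_of_ctr z fun φ => Subtype.ext (funext fun i => ?_)
  have := ctr_natural φ ((LinearMap.proj i) ∘ₗ S.subtype) z
  rw [show ((LinearMap.proj i) ∘ₗ S.subtype).lTensor M z = 0 from congrFun hz i, map_zero] at this
  exact this.symm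

theorem mem_range_pi_tensor [Module.Projective R M] [Module.Finite R M] (S : Submodule R (∀ i, N i))
    (y : ∀ i, M ⊗[R] N i) (hy : ∀ φ : M →ₗ[R] R, (fun i => ctr φ (N i) (y i)) ∈ S) :
    y ∈ LinearMap.range (LinearMap.pi fun i => ((LinearMap.proj i) ∘ₗ S.subtype).lTensor M :
      M ⊗[R] S →ₗ[R] ∀ i, M ⊗[R] N i) := by
  classical
  obtain ⟨n, π, s, hπs⟩ : ∃ n, ∃ π : (Fin n → R) →ₗ[R] M, ∃ s, π ∘ₗ s = LinearMap.id := by
    obtain ⟨n, π, hπ⟩ := Module.Finite.exists_fin' R M
    obtain ⟨s, hs⟩ := Module.projective_lifting_property π LinearMap.id hπ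
    exact ⟨n, π, s, hs⟩
  refine ⟨∑ j, π (Pi.single j 1) ⊗ₜ[R] (⟨_, hy (LinearMap.proj j ∘ₗ s)⟩ : S), funext fun i => ?_⟩
  simp only [LinearMap.pi_apply, map_sum, LinearMap.lTensor_tmul, LinearMap.coe_comp, Function.comp_apply,
    Submodule.subtype_apply, LinearMap.proj_apply]
  induction y i using TensorProduct.induction_on with
  | zero => simp
  | add a b ha hb => simp only [map_add, TensorProduct.tmul_add, Finset.sum_add_distrib, ha, hb]
  | tmul m l =>
    have : ∀ j, ctr (LinearMap.proj j ∘ₗ s) (N i) (m ⊗ₜ[R] l) = s m j • l := fun j => by simp [ctr]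
    simp only [this, TensorProduct.tmul_smul]
    rw [Finset.sum_congr rfl fun j _ => TensorProduct.smul_tmul' (s m j) (π (Pi.single j 1)) l]
    simp only [← map_smul]
    rw [← TensorProduct.sum_tmul, ← map_sum]
    congr 1
    rw [← pi_eq_sum_univ' (s m)]
    exact LinearMap.congr_fun hπs m

end Groth.Agent.H27Perf
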