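import Groth.Agent.H27Perf.Qcqs
import Groth.Agent.H27Perf.Cancel

/-!
# Permanence of properties of morphisms under perfection
-/

set_option autoImplicit false
universe u

open CategoryTheory AlgebraicGeometry Limits FrobSch TopologicalSpace

namespace Groth.Agent.H27Perf

variable {p : ℕ} [hp : Fact p.Prime] {X Y XP YP : Scheme.{u}}
  [IsCharP X p] [IsCharP Y p] [IsCharP XP p] [IsCharP YP p]
  {πX : XP ⟶ X} {πY : YP ⟶ Y} {f : X ⟶ Y} {fP : XP ⟶ YP}

theorem quasiCompact_iff' (hX : IsPerfection πX p) (hY : IsPerfection πY p)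
    (w : fP ≫ πY = πX ≫ f) : QuasiCompact f ↔ QuasiCompact fP := by
  have := IsPerfection.isAffineHom hX
  have := IsPerfection.isAffineHom hY
  have := IsPerfection.surjective hX
  constructor <;> intro _
  · have : QuasiCompact (fP ≫ πY) := w ▸ inferInstance
    exact QuasiCompact.of_comp fP πY
  · have : QuasiCompact (πX ≫ f) := w ▸ inferInstance
    exact quasiCompact_of_comp_surjective πX f

theorem quasiSeparated_iff' (hX : IsPerfection πX p) (hY : IsPerfection πY p)
    (w : fP ≫ πY = πX ≫ f) : QuasiSeparated f ↔ QuasiSeparated fP := by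
  have := IsPerfection.isAffineHom hX
  have := IsPerfection.isAffineHom hY
  have := IsPerfection.surjective hX
  constructor <;> intro _
  · have : QuasiSeparated (fP ≫ πY) := w ▸ inferInstance
    exact QuasiSeparated.of_comp fP πY
  · have : QuasiSeparated (πX ≫ f) := w ▸ inferInstance
    exact quasiSeparated_of_comp_surjective πX f

theorem isSeparated_iff' (hX : IsPerfection πX p) (hY : IsPerfection πY p)
    (w : fP ≫ πY = πX ≫ f) : IsSeparated f ↔ IsSeparated fP := by
  have := IsPerfection.isIntegralHom hX
  have := IsPerfection.isAffineHom hY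
  have := IsPerfection.surjective hX
  constructor <;> intro _
  · have : IsSeparated (fP ≫ πY) := w ▸ inferInstance
    exact IsSeparated.of_comp fP πY
  · have : IsSeparated (πX ≫ f) := w ▸ inferInstance
    exact isSeparated_of_comp_surjective πX f

theorem universallyClosed_iff' (hX : IsPerfection πX p) (hY : IsPerfection πY p)
    (w : fP ≫ πY = πX ≫ f) : UniversallyClosed f ↔ UniversallyClosed fP := by
  have := IsPerfection.isIntegralHom hX
  have := IsPerfection.isIntegralHom hY
  have := IsPerfection.surjective hX
  constructor <;> intro _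
  · have : UniversallyClosed (fP ≫ πY) := w ▸ inferInstance
    exact UniversallyClosed.of_comp_of_isSeparated fP πY
  · have : UniversallyClosed (πX ≫ f) := w ▸ inferInstance
    exact UniversallyClosed.of_comp_surjective πX f

theorem surjective_iff' (hX : IsPerfection πX p) (hY : IsPerfection πY p)
    (w : fP ≫ πY = πX ≫ f) : Surjective f ↔ Surjective fP := by
  have := IsPerfection.surjective hX
  have := IsPerfection.surjective hY
  have := IsPerfection.universallyInjective hY
  constructor <;> intro _
  · refine ⟨fun y => ?_⟩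
    obtain ⟨x, hx⟩ := (πX ≫ f).surjective (πY y)
    refine ⟨x, πY.injective ?_⟩
    rw [← Scheme.Hom.comp_apply, w, hx]
  · have : Surjective (πX ≫ f) := w ▸ inferInstance
    exact Surjective.of_comp πX f

theorem universallyInjective_iff' (hX : IsPerfection πX p) (hY : IsPerfection πY p)
    (w : fP ≫ πY = πX ≫ f) : UniversallyInjective f ↔ UniversallyInjective fP := by
  have := IsPerfection.surjective hX
  have := IsPerfection.universallyInjective hX
  have := IsPerfection.universallyInjective hY
  constructor <;> intro _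
  · have : UniversallyInjective (fP ≫ πY) := w ▸ MorphismProperty.comp_mem _ _ _ ‹_› ‹_›
    exact universallyInjective_of_comp fP πY
  · have : UniversallyInjective (πX ≫ f) := w ▸ MorphismProperty.comp_mem _ _ _ ‹_› ‹_›
    exact universallyInjective_of_comp_surjective πX f

theorem isUnivHomeo_iff' (hX : IsPerfection πX p) (hY : IsPerfection πY p)
    (w : fP ≫ πY = πX ≫ f) : FlatMor.IsUnivHomeo f ↔ FlatMor.IsUnivHomeo fP := by
  constructor <;> intro h <;>
    have := universallyClosed_of_isUnivHomeo h <;>
    have := universallyInjective_of_isUnivHomeo h <;>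
    have := surjective_of_isUnivHomeo h
  · have := (universallyClosed_iff' hX hY w).mp inferInstance
    have := (universallyInjective_iff' hX hY w).mp inferInstance
    have := (surjective_iff' hX hY w).mp inferInstance
    exact isUnivHomeo_of fP
  · have := (universallyClosed_iff' hX hY w).mpr inferInstance
    have := (universallyInjective_iff' hX hY w).mpr inferInstance
    have := (surjective_iff' hX hY w).mpr inferInstance
    exact isUnivHomeo_of f

omit [IsCharP X p] [IsCharP Y p] [IsCharP XP p] [IsCharP YP p] hp in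
theorem preimage_eq (w : fP ≫ πY = πX ≫ f) (V : Y.Opens) :
    fP ⁻¹ᵁ πY ⁻¹ᵁ V = πX ⁻¹ᵁ f ⁻¹ᵁ V := by
  rw [← Scheme.Hom.comp_preimage, ← Scheme.Hom.comp_preimage, w]

theorem isAffineHom_iff' (hX : IsPerfection πX p) (hY : IsPerfection πY p)
    (w : fP ≫ πY = πX ≫ f) : IsAffineHom f ↔ IsAffineHom fP := by
  have := IsPerfection.isAffineHom hX
  have := IsPerfection.isAffineHom hY
  constructor <;> intro hf
  · have : IsAffineHom (fP ≫ πY) := w ▸ inferInstance
    exact IsAffineHom.of_comp fP πY
  · have := (quasiCompact_iff' hX hY w).mpr inferInstance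
    have := (quasiSeparated_iff' hX hY w).mpr inferInstance
    refine ⟨fun V hV => ?_⟩
    have : IsAffine V.toScheme := hV
    have : CompactSpace (f ⁻¹ᵁ V : X.Opens).toScheme :=
      QuasiCompact.compactSpace_of_compactSpace (f ∣_ V)
    have : QuasiSeparated (f ∣_ V) := IsZariskiLocalAtTarget.restrict ‹_› V
    have : QuasiSeparatedSpace (f ⁻¹ᵁ V : X.Opens).toScheme :=
      quasiSeparatedSpace_of_quasiSeparated (f ∣_ V)
    refine isAffineOpen_of_isAffineOpen_preimage hX ?_
    rw [← preimage_eq w]
    exact (hV.preimage πY).preimage fP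

omit [IsCharP X p] [IsCharP Y p] [IsCharP XP p] [IsCharP YP p] hp in
theorem appLE_square (w : fP ≫ πY = πX ≫ f) {V : Y.Opens} {U : X.Opens} (e : U ≤ f ⁻¹ᵁ V) :
    πY.app V ≫ fP.appLE (πY ⁻¹ᵁ V) (πX ⁻¹ᵁ U) ((πX.preimage_mono e).trans (preimage_eq w V).ge) =
      f.appLE V U e ≫ πX.app U := by
  rw [Scheme.Hom.app_eq_appLE, Scheme.Hom.app_eq_appLE, Scheme.Hom.appLE_comp_appLE,
    Scheme.Hom.appLE_comp_appLE]
  simp_rw [w]

end Groth.Agent.H27Perf
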