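import Groth.Agent.H27Perf.Props

/-!
# Flatness and immersions under perfection
-/

set_option autoImplicit false
universe u

open CategoryTheory AlgebraicGeometry Limits FrobSch TopologicalSpace

namespace Groth.Agent.H27Perf

theorem iff_of_resLE {P : MorphismProperty Scheme.{u}} [P.RespectsIso] {X Y : Scheme.{u}}
    {f : X ⟶ Y} {U : Y.Opens} {V : X.Opens} (hU : IsAffineOpen U) (hV : IsAffineOpen V)
    (e : V ≤ f ⁻¹ᵁ U) : P (f.resLE U V e) ↔ P (Spec.map (f.appLE U V e)) := by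
  have : IsIso V.toSpecΓ := hV.isoSpec_hom ▸ inferInstance
  have : IsIso U.toSpecΓ := hU.isoSpec_hom ▸ inferInstance
  rw [← P.cancel_left_of_respectsIso V.toSpecΓ (Spec.map _), Scheme.Opens.toSpecΓ_SpecMap_appLE,
    P.cancel_right_of_respectsIso]

variable {p : ℕ} [hp : Fact p.Prime] {X Y XP YP : Scheme.{u}}
  [IsCharP X p] [IsCharP Y p] [IsCharP XP p] [IsCharP YP p]
  {πX : XP ⟶ X} {πY : YP ⟶ Y} {f : X ⟶ Y} {fP : XP ⟶ YP}

/-- If `YP ×_Y X` is perfect, it is the perfection of `X`. -/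
theorem isPullback_of_isPerfect (hX : IsPerfection πX p) (hY : IsPerfection πY p)
    (w : fP ≫ πY = πX ≫ f) [IsCharP (pullback πY f) p] (hP : IsPerfect (pullback πY f) p) :
    IsPullback fP πX πY f := by
  obtain ⟨l, hl⟩ := IsPerfection.exists_lift hX hP (pullback.snd πY f)
  let c : XP ⟶ pullback πY f := pullback.lift fP πX w
  have h1 : c ≫ l = 𝟙 XP := by
    refine IsPerfection.ext hX hX.1 ?_
    rw [Category.assoc, hl, pullback.lift_snd, Category.id_comp]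
  have h2 : l ≫ c = 𝟙 _ := by
    refine pullback.hom_ext ?_ ?_
    · rw [Category.assoc, pullback.lift_fst, Category.id_comp]
      refine IsPerfection.ext hY hP ?_
      rw [Category.assoc, w, reassoc_of% hl, pullback.condition]
    · rw [Category.assoc, pullback.lift_snd, Category.id_comp, hl]
  exact IsPullback.of_iso_pullback ⟨w⟩ ⟨c, l, h1, h2⟩ (pullback.lift_fst _ _ _)
    (pullback.lift_snd _ _ _)

theorem isPullback_of_isOpenImmersion (hX : IsPerfection πX p) (hY : IsPerfection πY p)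
    (w : fP ≫ πY = πX ≫ f) [IsOpenImmersion f] : IsPullback fP πX πY f :=
  have : IsCharP (pullback πY f) p := IsCharP.of_hom (pullback.fst πY f) p
  isPullback_of_isPerfect hX hY w (isPerfect_of_isOpenImmersion (pullback.fst πY f) hY.1)

theorem isOpenImmersion' (hX : IsPerfection πX p) (hY : IsPerfection πY p)
    (w : fP ≫ πY = πX ≫ f) [IsOpenImmersion f] : IsOpenImmersion fP :=
  MorphismProperty.of_isPullback (isPullback_of_isOpenImmersion hX hY w).flip inferInstance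

theorem isClosedImmersion' (hX : IsPerfection πX p) (hY : IsPerfection πY p)
    (w : fP ≫ πY = πX ≫ f) [IsClosedImmersion f] : IsClosedImmersion fP := by
  refine IsZariskiLocalAtTarget.of_iSup_eq_top (P := @IsClosedImmersion)
    (fun V : Y.affineOpens => πY ⁻¹ᵁ V.1) ?_ fun V => ?_
  · rw [← πY.preimage_iSup, iSup_affineOpens_eq_top Y, Scheme.Hom.preimage_top]
  have hU : IsAffineOpen (f ⁻¹ᵁ V.1) := V.2.preimage f
  obtain ⟨hU', hR⟩ := isAffineOpen_preimage_and_pRad hX hU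
  have hV' := (isAffineOpen_preimage_and_pRad hY V.2).1
  rw [← Scheme.Hom.resLE_eq_morphismRestrict,
    Scheme.Hom.resLE_congr (P := @IsClosedImmersion) (e₁ := rfl) (e₂ := preimage_eq w V.1),
    iff_of_resLE (P := @IsClosedImmersion) hV' hU']
  refine IsClosedImmersion.spec_of_surjective _ fun a => ?_
  obtain ⟨n, r, hr⟩ := hR.pow_mem a
  obtain ⟨b, hb⟩ := f.app_surjective V.1 V.2 r
  obtain ⟨b', hb'⟩ := (perfR_sections (p := p) hY.1 (πY ⁻¹ᵁ V.1)).exists_root (πY.app V.1 b) n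
  refine ⟨b', (perfR_sections hX.1 _).ext_of_pow (n := n) ?_⟩
  rw [← map_pow, hb', ← hr, ← hb, Scheme.Hom.app_eq_appLE f, ← ConcreteCategory.comp_apply]
  change (πY.app V.1 ≫ fP.appLE (πY ⁻¹ᵁ V.1) (πX ⁻¹ᵁ f ⁻¹ᵁ V.1) _) b = _
  rw [appLE_square w le_rfl]
  rfl

theorem isImmersion' (hX : IsPerfection πX p) (hY : IsPerfection πY p)
    (w : fP ≫ πY = πX ≫ f) [IsImmersion f] : IsImmersion fP := by
  let U := f.coborderRange
  have : IsCharP U.toScheme p := IsCharP.of_hom U.ι p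
  have : IsCharP (πY ⁻¹ᵁ U : YP.Opens).toScheme p := IsCharP.of_hom (πY ⁻¹ᵁ U).ι p
  have hrange : Set.range fP ⊆ Set.range (πY ⁻¹ᵁ U).ι := by
    rintro _ ⟨x, rfl⟩
    rw [Scheme.Opens.range_ι]
    change πY (fP x) ∈ U
    rw [← Scheme.Hom.comp_apply, w, ← f.liftCoborder_ι, ← Category.assoc, Scheme.Hom.comp_apply]
    exact ((πX ≫ f.liftCoborder) x).2
  let iP := IsOpenImmersion.lift (πY ⁻¹ᵁ U).ι fP hrange
  have hiP : iP ≫ (πY ⁻¹ᵁ U).ι = fP := IsOpenImmersion.lift_fac _ _ _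
  have w' : iP ≫ πY ∣_ U = πX ≫ f.liftCoborder := by
    rw [← cancel_mono U.ι, Category.assoc, morphismRestrict_ι, reassoc_of% hiP, w, Category.assoc,
      f.liftCoborder_ι]
  have h1 : IsClosedImmersion iP := isClosedImmersion' hX (IsPerfection.restrict hY U) w'
  rw [← hiP]
  infer_instance

theorem flat' (hX : IsPerfection πX p) (hY : IsPerfection πY p)
    (w : fP ≫ πY = πX ≫ f) [Flat f] : Flat fP := by
  refine IsZariskiLocalAtSource.of_iSup_eq_top (P := @Flat)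
    (fun W : { VU : Y.affineOpens × X.affineOpens // VU.2.1 ≤ f ⁻¹ᵁ VU.1.1 } =>
      πX ⁻¹ᵁ W.1.2.1) ?_ fun W => ?_
  · rw [← πX.preimage_iSup, ← πX.preimage_top]
    refine congrArg (fun T => πX ⁻¹ᵁ T) (top_le_iff.mp fun x _ => ?_)
    obtain ⟨_, ⟨V, hV, rfl⟩, hxV, -⟩ :=
      Y.isBasis_affineOpens.exists_subset_of_mem_open (Set.mem_univ (f x)) isOpen_univ
    change Y.Opens at V
    obtain ⟨_, ⟨U, hU, rfl⟩, hxU, hUV⟩ :=
      X.isBasis_affineOpens.exists_subset_of_mem_open (show x ∈ f ⁻¹ᵁ V from hxV) (f ⁻¹ᵁ V).2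
    exact Opens.mem_iSup.mpr ⟨⟨(⟨V, hV⟩, ⟨U, hU⟩), hUV⟩, hxU⟩
  obtain ⟨⟨V, U⟩, hUV⟩ := W
  obtain ⟨hU', hRU⟩ := isAffineOpen_preimage_and_pRad hX U.2
  obtain ⟨hV', hRV⟩ := isAffineOpen_preimage_and_pRad hY V.2
  have e : πX ⁻¹ᵁ U.1 ≤ fP ⁻¹ᵁ πY ⁻¹ᵁ V.1 :=
    (πX.preimage_mono hUV).trans (preimage_eq w V.1).ge
  change Flat ((πX ⁻¹ᵁ U.1).ι ≫ fP)
  rw [← Scheme.Hom.resLE_comp_ι fP e]
  have hres : Flat (fP.resLE _ _ e) := by
    rw [iff_of_resLE (P := @Flat) hV' hU', HasRingHomProperty.Spec_iff (P := @Flat)]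
    refine flat_of_pRad hRV hRU (natCast_eq_zero_app X p U.1) (perfR_sections hY.1 _)
      (perfR_sections hX.1 _) (f := (f.appLE V.1 U.1 hUV).hom) ?_
      (HasRingHomProperty.appLE (P := @Flat) f ‹_› V U hUV)
    exact congrArg CommRingCat.Hom.hom (appLE_square w hUV)
  infer_instance

end Groth.Agent.H27Perf
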