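import Groth.Agent.H27Perf.Basic

/-!
# Perfections of qcqs schemes; affineness descends along a perfection
-/

set_option autoImplicit false
universe u

open CategoryTheory AlgebraicGeometry Limits FrobSch TopologicalSpace

namespace Groth.Agent.H27Perf

variable {p : ℕ} [hp : Fact p.Prime] {XP X : Scheme.{u}} {π : XP ⟶ X} [IsCharP XP p] [IsCharP X p]

theorem IsPerfection.restrict (h : IsPerfection π p) (U : X.Opens) :
    haveI : IsCharP (π ⁻¹ᵁ U : XP.Opens).toScheme p := IsCharP.of_hom (π ⁻¹ᵁ U).ι p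
    IsPerfection (π ∣_ U) p := by
  have : IsCharP (π ⁻¹ᵁ U : XP.Opens).toScheme p := IsCharP.of_hom (π ⁻¹ᵁ U).ι p
  refine ⟨isPerfect_of_isOpenImmersion (π ⁻¹ᵁ U).ι h.1, fun Y _ hY => ⟨fun g₁ g₂ e => ?_, fun g => ?_⟩⟩
  · have e' : g₁ ≫ π ∣_ U = g₂ ≫ π ∣_ U := e
    rw [← cancel_mono (π ⁻¹ᵁ U).ι]
    refine IsPerfection.ext h hY ?_
    simp only [Category.assoc, ← morphismRestrict_ι]
    rw [← Category.assoc, e', Category.assoc]
  · obtain ⟨l, hl⟩ := IsPerfection.exists_lift h hY (g ≫ U.ι)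
    have hrange : Set.range l ⊆ Set.range (π ⁻¹ᵁ U).ι := by
      rintro _ ⟨y, rfl⟩
      rw [Scheme.Opens.range_ι]
      change π (l y) ∈ U
      rw [← Scheme.Hom.comp_apply, hl]
      exact (g y).2
    refine ⟨IsOpenImmersion.lift (π ⁻¹ᵁ U).ι l hrange, ?_⟩
    change IsOpenImmersion.lift (π ⁻¹ᵁ U).ι l hrange ≫ π ∣_ U = g
    rw [← cancel_mono U.ι, Category.assoc, morphismRestrict_ι, IsOpenImmersion.lift_fac_assoc, hl]

omit [IsCharP XP p] [IsCharP X p] hp in
theorem app_res {U V : X.Opens} (e : V ≤ U) (s : Γ(X, U)) :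
    π.app V (X.presheaf.map (homOfLE e).op s) =
      XP.presheaf.map (homOfLE (π.preimage_mono e)).op (π.app U s) := by
  change (X.presheaf.map (homOfLE e).op ≫ π.app V) s =
    (π.app U ≫ XP.presheaf.map (homOfLE (π.preimage_mono e)).op) s
  rw [Scheme.Hom.naturality]
  rfl

theorem res_res (Z : Scheme.{u}) {U V W : Z.Opens} (e : V ≤ U) (e' : W ≤ V) (s : Γ(Z, U)) :
    Z.presheaf.map (homOfLE e').op (Z.presheaf.map (homOfLE e).op s) =
      Z.presheaf.map (homOfLE (e'.trans e)).op s := by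
  rw [← ConcreteCategory.comp_apply, ← Functor.map_comp]
  rfl

/-- The kernel of `Γ(X, U) → Γ(XP, π⁻¹U)` is killed by `p`-powers, for compact `U`. -/
theorem exists_pow_eq_zero_of_app_eq_zero (h : IsPerfection π p) {U : X.Opens}
    (hU : IsCompact (U : Set X)) :
    ∀ s : Γ(X, U), π.app U s = 0 → ∃ n, s ^ p ^ n = 0 := by
  refine compact_open_induction_on (P := fun U => ∀ s : Γ(X, U), π.app U s = 0 → ∃ n, s ^ p ^ n = 0)
    U hU ?_ ?_
  · intro s _
    exact ⟨0, @Subsingleton.elim _ (CommRingCat.subsingleton_of_isTerminal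
      (X.sheaf.isTerminalOfEqEmpty rfl)) _ _⟩
  · intro S _ A hS s hs
    have key : ∀ {V : X.Opens} (hV : V ≤ S ⊔ A.1),
        π.app V (X.presheaf.map (homOfLE hV).op s) = 0 := fun {V} hV => by
      rw [app_res, hs, map_zero]
    obtain ⟨n₁, h₁⟩ := hS _ (key le_sup_left)
    obtain ⟨n₂, h₂⟩ := (isAffineOpen_preimage_and_pRad h A.2).2.ker _ (key le_sup_right)
    refine ⟨max n₁ n₂, X.sheaf.eq_of_locally_eq₂ (homOfLE le_sup_left) (homOfLE le_sup_right)
      le_rfl _ _ ?_ ?_⟩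
    · change X.presheaf.map _ _ = X.presheaf.map _ _
      rw [map_pow, map_zero]
      exact pow_eq_zero_mono h₁ (le_max_left _ _)
    · change X.presheaf.map _ _ = X.presheaf.map _ _
      rw [map_pow, map_zero]
      exact pow_eq_zero_mono h₂ (le_max_right _ _)

/-- On a quasi-separated scheme, sections over a compact open are `p`-radical. -/
theorem exists_pow_mem_range_app (h : IsPerfection π p) [QuasiSeparatedSpace X] {U : X.Opens}
    (hU : IsCompact (U : Set X)) :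
    ∀ t : Γ(XP, π ⁻¹ᵁ U), ∃ n s, π.app U s = t ^ p ^ n := by
  refine compact_open_induction_on
    (P := fun U => ∀ t : Γ(XP, π ⁻¹ᵁ U), ∃ n s, π.app U s = t ^ p ^ n) U hU ?_ ?_
  · intro t
    exact ⟨0, 0, @Subsingleton.elim _ (CommRingCat.subsingleton_of_isTerminal
      (XP.sheaf.isTerminalOfEqEmpty (by simp))) _ _⟩
  · intro S hS A ih t
    have hSU : π ⁻¹ᵁ S ≤ π ⁻¹ᵁ (S ⊔ A.1) := π.preimage_mono le_sup_left
    have hAU : π ⁻¹ᵁ A.1 ≤ π ⁻¹ᵁ (S ⊔ A.1) := π.preimage_mono le_sup_right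
    obtain ⟨n₁, s₁, h₁⟩ := ih (XP.presheaf.map (homOfLE hSU).op t)
    obtain ⟨n₂, s₂, h₂⟩ := (isAffineOpen_preimage_and_pRad h A.2).2.pow_mem
      (XP.presheaf.map (homOfLE hAU).op t)
    replace h₂ : π.app A.1 s₂ = XP.presheaf.map (homOfLE hAU).op t ^ p ^ n₂ := h₂
    have hcpt : IsCompact ((S ⊓ A.1 : X.Opens) : Set X) := by
      rw [Opens.coe_inf]
      exact QuasiSeparatedSpace.inter_isCompact _ _ S.2 hS A.1.2 A.2.isCompact
    obtain ⟨m, hm⟩ := exists_pow_eq_zero_of_app_eq_zero h hcpt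
      (X.presheaf.map (homOfLE inf_le_left).op (s₁ ^ p ^ n₂) -
        X.presheaf.map (homOfLE inf_le_right).op (s₂ ^ p ^ n₁)) (by
      rw [map_sub, app_res, app_res, map_pow (π.app S).hom, map_pow (π.app A.1).hom, h₁, h₂,
        ← pow_mul, ← pow_mul, ← pow_add, ← pow_add, add_comm n₂, map_pow, map_pow,
        res_res, res_res, sub_self])
    have hp0 : (p : Γ(X, S ⊓ A.1)) = 0 := natCast_eq_zero_app X p _
    rw [sub_pow' hp0, sub_eq_zero, ← map_pow, ← map_pow] at hm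
    obtain ⟨σ, hσ₁, hσ₂⟩ : ∃ σ : Γ(X, S ⊔ A.1),
        X.presheaf.map (homOfLE le_sup_left).op σ = (s₁ ^ p ^ n₂) ^ p ^ m ∧
        X.presheaf.map (homOfLE le_sup_right).op σ = (s₂ ^ p ^ n₁) ^ p ^ m :=
      ⟨(X.sheaf.objSupIsoProdEqLocus S A.1).inv
          ⟨⟨(s₁ ^ p ^ n₂) ^ p ^ m, (s₂ ^ p ^ n₁) ^ p ^ m⟩, hm⟩,
        X.sheaf.objSupIsoProdEqLocus_inv_fst S A.1 _, X.sheaf.objSupIsoProdEqLocus_inv_snd S A.1 _⟩
    refine ⟨n₁ + n₂ + m, σ, XP.sheaf.eq_of_locally_eq₂ (homOfLE hSU) (homOfLE hAU) le_rfl _ _ ?_ ?_⟩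
    · change XP.presheaf.map _ _ = XP.presheaf.map _ _
      rw [← app_res le_sup_left, hσ₁, map_pow, map_pow, h₁, ← pow_mul, ← pow_add, ← pow_mul,
        ← pow_add, map_pow]
      congr 2; omega
    · change XP.presheaf.map _ _ = XP.presheaf.map _ _
      rw [← app_res le_sup_right, hσ₂, map_pow, map_pow, h₂, ← pow_mul, ← pow_add, ← pow_mul,
        ← pow_add, map_pow]
      congr 2; omega

theorem pRad_appTop (h : IsPerfection π p) [CompactSpace X] [QuasiSeparatedSpace X] :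
    PRad p π.appTop.hom :=
  ⟨exists_pow_mem_range_app h (U := ⊤) (by simpa using isCompact_univ),
    exists_pow_eq_zero_of_app_eq_zero h (U := ⊤) (by simpa using isCompact_univ)⟩

/-- If the perfection of a qcqs scheme is affine, so is the scheme. -/
theorem isAffine_of_isAffine_perfection (h : IsPerfection π p) [CompactSpace X]
    [QuasiSeparatedSpace X] [IsAffine XP] : IsAffine X := by
  let G : Set Γ(X, ⊤) := {s | IsAffineOpen (X.basicOpen s)}
  refine isAffine_of_isAffineOpen_basicOpen G ?_ fun _ hs => hs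
  have hR := pRad_appTop h
  have hsurj := IsPerfection.surjective h
  rw [← Subtype.range_coe (s := G)]
  refine hR.span_eq_top _ ((isAffineOpen_top XP).iSup_basicOpen_eq_self_iff.mp ?_)
  refine top_le_iff.mp fun y _ => ?_
  obtain ⟨_, ⟨U, hU, rfl⟩, hxU, -⟩ :=
    X.isBasis_affineOpens.exists_subset_of_mem_open (Set.mem_univ (π y)) isOpen_univ
  change X.Opens at U
  obtain ⟨t, ht, hyt⟩ := (isAffineOpen_top XP).exists_basicOpen_le (V := π ⁻¹ᵁ U)
    ⟨y, hxU⟩ trivial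
  obtain ⟨n, s, hs⟩ := hR.pow_mem t
  have hb : π ⁻¹ᵁ X.basicOpen s = XP.basicOpen t := by
    rw [Scheme.preimage_basicOpen]
    change XP.basicOpen (π.appTop.hom s) = _
    rw [hs]
    exact XP.basicOpen_pow t (pow_pos hp.out.pos n)
  have hle : X.basicOpen s ≤ U := by
    intro x hx
    obtain ⟨z, rfl⟩ := hsurj.1 x
    exact ht (hb.le hx)
  have hmem : s ∈ G := by
    have hb2 : X.basicOpen (X.presheaf.map (homOfLE le_top).op s) = X.basicOpen s :=
      (X.basicOpen_res s (homOfLE (le_top : U ≤ ⊤)).op).trans (inf_eq_right.mpr hle)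
    change IsAffineOpen (X.basicOpen s)
    rw [← hb2]
    exact hU.basicOpen _
  refine Opens.mem_iSup.mpr ⟨⟨π.appTop.hom s, ⟨⟨s, hmem⟩, rfl⟩⟩, ?_⟩
  change y ∈ XP.basicOpen (π.appTop.hom s)
  rw [hs, XP.basicOpen_pow t (pow_pos hp.out.pos n)]
  exact hyt

theorem isAffineOpen_of_isAffineOpen_preimage (h : IsPerfection π p) {U : X.Opens}
    [CompactSpace U.toScheme] [QuasiSeparatedSpace U.toScheme]
    (hU : IsAffineOpen (π ⁻¹ᵁ U)) : IsAffineOpen U := by
  have : IsCharP U.toScheme p := IsCharP.of_hom U.ι p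
  have : IsCharP (π ⁻¹ᵁ U : XP.Opens).toScheme p := IsCharP.of_hom (π ⁻¹ᵁ U).ι p
  have : IsAffine (π ⁻¹ᵁ U : XP.Opens).toScheme := hU
  exact isAffine_of_isAffine_perfection (IsPerfection.restrict h U)

end Groth.Agent.H27Perf
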