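import Mathlib

/-! # Perfect algebras over a perfect ring are Tor independent: the element-wise core -/

set_option autoImplicit false
set_option linter.unusedSectionVars false

noncomputable section

universe u

open scoped TensorProduct

namespace Groth.Agent.H27Perf.TorIndep

variable (p : ℕ) [hp : Fact p.Prime]

/-- Bijectivity of the `p`-th power map. -/
def Perf (B : Type u) [Pow B ℕ] : Prop := Function.Bijective fun b : B => b ^ p

variable {p}

theorem natCast_eq_zero_of_algebra (A : Type u) [CommRing A] (hA : (p : A) = 0) (B : Type u) [CommRing B]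
    [Algebra A B] : (p : B) = 0 := by
  rw [← map_natCast (algebraMap A B), hA, map_zero]

theorem add_pow' {B : Type u} [CommRing B] (hB : (p : B) = 0) (x y : B) : (x + y) ^ p = x ^ p + y ^ p := by
  rw [add_pow_prime_eq hp.out, hB]
  ring

section Reduced

variable {A B C : Type u} [CommRing A] [CommRing B] [CommRing C] [Algebra A B] [Algebra A C]

theorem pow_eq_zero_tensor (hpA : (p : A) = 0) (hA : Perf p A) (hB : Perf p B) (hC : Perf p C)
    (z : B ⊗[A] C) (hz : z ^ p = 0) : z = 0 := by
  let rb := Function.surjInv hB.surjective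
  let rc := Function.surjInv hC.surjective
  let ra := Function.surjInv hA.surjective
  have eb : ∀ b, rb b ^ p = b := Function.surjInv_eq hB.surjective
  have ec : ∀ c, rc c ^ p = c := Function.surjInv_eq hC.surjective
  have ea : ∀ a, ra a ^ p = a := Function.surjInv_eq hA.surjective
  have hpB := natCast_eq_zero_of_algebra A hpA B
  have hpC := natCast_eq_zero_of_algebra A hpA C
  have addb : ∀ x y, rb (x + y) = rb x + rb y := fun x y =>
    hB.injective (by simp only [eb, add_pow' hpB])
  have addc : ∀ x y, rc (x + y) = rc x + rc y := fun x y =>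
    hC.injective (by simp only [ec, add_pow' hpC])
  have smb : ∀ (a : A) x, rb (a • x) = ra a • rb x := fun a x =>
    hB.injective (by simp only [eb, smul_pow, ea])
  have smc : ∀ (a : A) x, rc (a • x) = ra a • rc x := fun a x =>
    hC.injective (by simp only [ec, smul_pow, ea])
  have rb0 : rb 0 = 0 := hB.injective (by simp only [eb, zero_pow hp.out.ne_zero])
  have rc0 : rc 0 = 0 := hC.injective (by simp only [ec, zero_pow hp.out.ne_zero])
  let F : B →+ C →+ B ⊗[A] C :=
    { toFun := fun b =>
        { toFun := fun c => rb b ⊗ₜ[A] rc c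
          map_zero' := by simp [rc0]
          map_add' := fun x y => by rw [addc, TensorProduct.tmul_add] }
      map_zero' := by ext c; simp [rb0]
      map_add' := fun x y => by ext c; simp [addb, TensorProduct.add_tmul] }
  let root : B ⊗[A] C →+ B ⊗[A] C := TensorProduct.liftAddHom F fun a b c => by
    show rb (a • b) ⊗ₜ[A] rc c = rb b ⊗ₜ[A] rc (a • c)
    rw [smb, smc, TensorProduct.smul_tmul]
  have hpT := natCast_eq_zero_of_algebra A hpA (B ⊗[A] C)
  have hroot : ∀ w : B ⊗[A] C, root (w ^ p) = w := by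
    intro w
    induction w using TensorProduct.induction_on with
    | zero => rw [zero_pow hp.out.ne_zero, map_zero]
    | tmul b c =>
      rw [Algebra.TensorProduct.tmul_pow]
      show rb (b ^ p) ⊗ₜ[A] rc (c ^ p) = _
      congr 1
      · exact hB.injective (eb _)
      · exact hC.injective (ec _)
    | add x y hx hy => rw [add_pow' hpT, map_add, hx, hy]
  rw [← hroot z, hz, map_zero]

end Reduced

variable {A : Type u} [CommRing A]

/-- Multiplication on the left factor. -/
def mul' {B : Type u} [CommRing B] [Algebra A B] (g : B) (M : Type u) [AddCommGroup M] [Module A M] :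
    B ⊗[A] M →ₗ[A] B ⊗[A] M :=
  LinearMap.rTensor M (LinearMap.mulLeft A g)

theorem mul'_mul {B : Type u} [CommRing B] [Algebra A B] (g h : B) {M : Type u} [AddCommGroup M] [Module A M]
    (x : B ⊗[A] M) : mul' (g * h) M x = mul' g M (mul' h M x) := by
  rw [mul', mul', mul', ← LinearMap.comp_apply, ← LinearMap.rTensor_comp, LinearMap.mulLeft_mul]

theorem mul'_comm_lTensor {B : Type u} [CommRing B] [Algebra A B] (g : B) {M N : Type u} [AddCommGroup M]
    [Module A M] [AddCommGroup N] [Module A N] (φ : M →ₗ[A] N) (x : B ⊗[A] M) :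
    LinearMap.lTensor B φ (mul' g M x) = mul' g N (LinearMap.lTensor B φ x) := by
  rw [mul', mul', ← LinearMap.comp_apply, ← LinearMap.comp_apply, LinearMap.lTensor_comp_rTensor,
    LinearMap.rTensor_comp_lTensor]

variable (p) in
/-- Multiplication by `g ^ p` and by `g` have the same kernel on perfect algebras. -/
def Kills (M : Type u) [AddCommGroup M] [Module A M] : Prop :=
  ∀ (B : Type u) [CommRing B] [Algebra A B], Perf p B → ∀ (g : B) (x : B ⊗[A] M),
    mul' (g ^ p) M x = 0 → mul' g M x = 0

theorem kills_of_flat (M : Type u) [AddCommGroup M] [Module A M] [Module.Flat A M] : Kills (A := A) p M := by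
  intro B _ _ hB g x hx
  let K := LinearMap.ker (LinearMap.mulLeft A (g ^ p) : B →ₗ[A] B)
  have hex : Function.Exact K.subtype (LinearMap.mulLeft A (g ^ p) : B →ₗ[A] B) :=
    LinearMap.exact_subtype_ker_map _
  obtain ⟨y, rfl⟩ := (Module.Flat.rTensor_exact M hex x).mp hx
  rw [mul', ← LinearMap.comp_apply, ← LinearMap.rTensor_comp]
  have : (LinearMap.mulLeft A g : B →ₗ[A] B) ∘ₗ K.subtype = 0 := by
    ext ⟨b, hb⟩
    show g * b = 0
    refine hB.injective ?_
    simp only [zero_pow hp.out.ne_zero, mul_pow]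
    rw [show b ^ p = b * b ^ (p - 1) by rw [← pow_succ', Nat.sub_add_cancel hp.out.one_le],
      ← mul_assoc, show g ^ p * b = 0 from hb, zero_mul]
  rw [this, LinearMap.rTensor_zero, LinearMap.zero_apply]

theorem kills_of_perfect (hpA : (p : A) = 0) (hA : Perf p A) (C : Type u) [CommRing C] [Algebra A C]
    (hC : Perf p C) : Kills (A := A) p C := by
  intro B _ _ hB g x hx
  have hmul : ∀ (g : B) (x : B ⊗[A] C), mul' g C x = (g ⊗ₜ[A] (1 : C)) * x := by
    intro g x
    induction x using TensorProduct.induction_on with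
    | zero => simp
    | tmul b c => simp [mul']
    | add x y hx hy => rw [map_add, hx, hy, mul_add]
  rw [hmul] at hx ⊢
  refine pow_eq_zero_tensor hpA hA hB hC _ ?_
  rw [mul_pow, Algebra.TensorProduct.tmul_pow, one_pow,
    show x ^ p = x * x ^ (p - 1) by rw [← pow_succ', Nat.sub_add_cancel hp.out.one_le], ← mul_assoc, hx, zero_mul]

variable {E : ℕ → Type u} [∀ i, AddCommGroup (E i)] [∀ i, Module A (E i)] {δ : ∀ i, E (i + 1) →ₗ[A] E i}

/-- `M ⊗ E` is exact away from the augmentation. -/
def Indep (δ : ∀ i, E (i + 1) →ₗ[A] E i) (M : Type u) [AddCommGroup M] [Module A M] : Prop :=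
  ∀ i (z : M ⊗[A] E (i + 1)), LinearMap.lTensor M (δ i) z = 0 → z ∈ LinearMap.range (LinearMap.lTensor M (δ (i + 1)))

theorem indep_of_flat (hex : ∀ i, Function.Exact (δ (i + 1)) (δ i)) (M : Type u) [AddCommGroup M] [Module A M]
    [Module.Flat A M] : Indep δ M :=
  fun i z hz => (Module.Flat.lTensor_exact M (hex i) z).mp hz

theorem indep_step (hpA : (p : A) = 0) (hex : ∀ i, Function.Exact (δ (i + 1)) (δ i))
    (hsurj : Function.Surjective (δ 0)) (hK : ∀ i, Kills (A := A) p (E i)) {B B' : Type u} [CommRing B]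
    [CommRing B'] [Algebra A B] [Algebra A B'] (hB : Perf p B) (f : B) (π : B →ₐ[A] B')
    (hπ : Function.Surjective π) (hker : ∀ b, π b = 0 ↔ ∃ k : ℕ, f ∣ b ^ k) (h : Indep δ B) : Indep δ B' := by
  classical
  let r := Function.surjInv hB.surjective
  let fn : ℕ → B := fun n => r^[n] f
  have hfn : ∀ n, fn (n + 1) ^ p = fn n := fun n => by
    show r^[n + 1] f ^ p = r^[n] f
    rw [Function.iterate_succ_apply']
    exact Function.surjInv_eq hB.surjective _
  have hfpow : ∀ n, fn n ^ p ^ n = f := fun n => by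
    induction n with
    | zero => simp [fn]
    | succ n ih => rw [pow_succ', pow_mul, hfn, ih]
  have hdvd : ∀ m n, m ≤ n → fn n ∣ fn m := fun m n hmn => by
    induction hmn with
    | refl => rfl
    | @step n _ ih =>
      have h1 : fn (n + 1) ∣ fn n := by rw [← hfn n]; exact dvd_pow_self _ hp.out.ne_zero
      exact h1.trans ih
  have hπfn : ∀ n, π (fn n) = 0 := fun n => (hker _).mpr ⟨p ^ n, by rw [hfpow]⟩
  have hpowinj : ∀ n, Function.Injective fun b : B => b ^ p ^ n := fun n => by
    induction n with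
    | zero => simp [Function.Injective]
    | succ n ih =>
      intro a b hab
      refine ih (hB.injective ?_)
      simp only [← pow_mul, ← pow_succ]
      exact hab
  have hkerfn : ∀ b, π b = 0 → ∃ n c, b = fn n * c := by
    intro b hb
    obtain ⟨k, hk⟩ := (hker b).mp hb
    have hk' : k ≤ p ^ k := (Nat.lt_pow_self hp.out.one_lt).le
    obtain ⟨c, hc⟩ := hk.trans (pow_dvd_pow b hk')
    have hsurjn : Function.Surjective fun b : B => b ^ p ^ k := by
      clear hc hk hk' hb
      induction k with
      | zero => exact fun b => ⟨b, by simp⟩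
      | succ k ih =>
        intro b
        obtain ⟨x, rfl⟩ := ih b
        obtain ⟨y, rfl⟩ := hB.surjective x
        exact ⟨y, by simp only [← pow_mul]; rw [pow_succ']⟩
    obtain ⟨d, hd⟩ := hsurjn c
    refine ⟨k, d, hpowinj k ?_⟩
    simp only at hd ⊢
    rw [mul_pow, hfpow, hd, hc]
  -- lifting along `π`
  intro i z hz
  obtain ⟨y, rfl⟩ := LinearMap.rTensor_surjective (E (i + 1)) (g := π.toLinearMap) hπ z
  have hz' : LinearMap.rTensor (E i) π.toLinearMap (LinearMap.lTensor B (δ i) y) = 0 := by
    rw [← hz, ← LinearMap.comp_apply, ← LinearMap.comp_apply, LinearMap.rTensor_comp_lTensor,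
      LinearMap.lTensor_comp_rTensor]
  have hexπ : Function.Exact (LinearMap.ker π.toLinearMap).subtype π.toLinearMap :=
    LinearMap.exact_subtype_ker_map _
  obtain ⟨w0, hw0⟩ := (rTensor_exact (E i) hexπ (hπ) _).mp hz'
  have hw : ∀ w0 : LinearMap.ker π.toLinearMap ⊗[A] E i,
      ∃ n w, LinearMap.rTensor (E i) (LinearMap.ker π.toLinearMap).subtype w0 = mul' (fn n) (E i) w := by
    intro w0
    induction w0 using TensorProduct.induction_on with
    | zero => exact ⟨0, 0, by simp⟩
    | tmul b e =>
      obtain ⟨n, c, hc⟩ := hkerfn b.1 b.2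
      exact ⟨n, c ⊗ₜ e, by simp [mul', hc]⟩
    | add a b ha hb =>
      obtain ⟨n, w, hw⟩ := ha
      obtain ⟨m, w', hw'⟩ := hb
      obtain ⟨c, hc⟩ := hdvd n _ (le_max_left n m)
      obtain ⟨c', hc'⟩ := hdvd m _ (le_max_right n m)
      exact ⟨max n m, mul' c (E i) w + mul' c' (E i) w', by
        rw [map_add, map_add, hw, hw', ← mul'_mul, ← mul'_mul, ← hc, ← hc']⟩
  obtain ⟨n, w, hw⟩ := hw w0
  rw [hw0] at hw
  -- move one step deeper
  let g := fn (n + 1)
  let w' := mul' (g ^ (p - 1)) (E i) w
  have hgw : LinearMap.lTensor B (δ i) y = mul' g (E i) w' := by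
    rw [hw, ← mul'_mul, ← pow_succ', Nat.sub_add_cancel hp.out.one_le, hfn]
  have hw' : ∃ u, LinearMap.lTensor B (δ i) u = w' := by
    rcases i with - | j
    · exact LinearMap.lTensor_surjective B hsurj w'
    · refine h j w' ?_
      have hp1 : p - 1 ≠ 0 := by have := hp.out.two_le; omega
      obtain ⟨q, hq⟩ : ∃ q, p - 1 = q + 1 := Nat.exists_eq_succ_of_ne_zero hp1
      have h0 : mul' (g ^ p) (E j) (LinearMap.lTensor B (δ j) w) = 0 := by
        rw [show g ^ p = fn n from hfn n, ← mul'_comm_lTensor, ← hw, ← LinearMap.comp_apply,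
          ← LinearMap.lTensor_comp, (hex j).linearMap_comp_eq_zero, LinearMap.lTensor_zero, LinearMap.zero_apply]
      have h1 := hK j B hB g _ h0
      rw [mul'_comm_lTensor, hq, pow_succ, mul'_mul, h1, map_zero]
  obtain ⟨u, hu⟩ := hw'
  obtain ⟨v, hv⟩ := h i (y - mul' g (E (i + 1)) u) (by
    rw [map_sub, mul'_comm_lTensor, hu, hgw, sub_self])
  refine ⟨LinearMap.rTensor (E (i + 1 + 1)) π.toLinearMap v, ?_⟩
  rw [← LinearMap.comp_apply, LinearMap.lTensor_comp_rTensor, ← LinearMap.rTensor_comp_lTensor,
    LinearMap.comp_apply, hv, map_sub, sub_eq_self, mul', ← LinearMap.comp_apply, ← LinearMap.rTensor_comp]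
  have : π.toLinearMap ∘ₗ LinearMap.mulLeft A g = 0 := LinearMap.ext fun b => by
    show π (g * b) = 0
    rw [map_mul, hπfn, zero_mul]
  rw [this, LinearMap.rTensor_zero, LinearMap.zero_apply]

theorem perf_quotient {P : Type u} [CommRing P] (hP : Perf p P) (hp0 : (p : P) = 0) (I : Ideal P) (hI : I.IsRadical) :
    Perf p (P ⧸ I) := by
  refine ⟨fun a b hab => ?_, fun a => ?_⟩
  · obtain ⟨a, rfl⟩ := Ideal.Quotient.mk_surjective a
    obtain ⟨b, rfl⟩ := Ideal.Quotient.mk_surjective b
    rw [← sub_eq_zero, ← map_sub, Ideal.Quotient.eq_zero_iff_mem]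
    refine hI ⟨p, ?_⟩
    rw [← Ideal.Quotient.eq_zero_iff_mem, map_pow, map_sub]
    have hq : (p : P ⧸ I) = 0 := by rw [← map_natCast (Ideal.Quotient.mk I), hp0, map_zero]
    have h2 := add_pow' (p := p) hq (Ideal.Quotient.mk I a - Ideal.Quotient.mk I b) (Ideal.Quotient.mk I b)
    rw [sub_add_cancel] at h2
    simp only at hab
    rw [hab] at h2
    exact right_eq_add.mp h2
  · obtain ⟨a, rfl⟩ := Ideal.Quotient.mk_surjective a
    obtain ⟨b, rfl⟩ := hP.surjective a
    exact ⟨Ideal.Quotient.mk I b, by simp⟩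

theorem indep_quotient (hpA : (p : A) = 0) (hex : ∀ i, Function.Exact (δ (i + 1)) (δ i))
    (hsurj : Function.Surjective (δ 0)) (hK : ∀ i, Kills (A := A) p (E i)) {P B : Type u} [CommRing P] [CommRing B]
    [Algebra A P] [Algebra A B] (hP : Perf p P) (hB : Perf p B) (π : P →ₐ[A] B) (hπ : Function.Surjective π)
    (h : Indep δ P) : Indep δ B := by
  classical
  have hp0 := natCast_eq_zero_of_algebra A hpA P
  have hfin : ∀ s : Finset P, Indep δ (P ⧸ (Ideal.span (s : Set P)).radical) := by
    intro s
    induction s using Finset.induction_on with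
    | empty =>
      refine indep_step hpA hex hsurj hK hP 0 (Ideal.Quotient.mkₐ A _) Ideal.Quotient.mk_surjective (fun b => ?_) h
      rw [Ideal.Quotient.mkₐ_eq_mk, Ideal.Quotient.eq_zero_iff_mem]
      simp only [Finset.coe_empty, Ideal.span_empty, Ideal.mem_radical_iff, Ideal.mem_bot, zero_dvd_iff]
    | insert a s ha ih =>
      let J := (Ideal.span (s : Set P)).radical
      let J' := (Ideal.span ((insert a s : Finset P) : Set P)).radical
      have hle : J ≤ J' := Ideal.radical_mono (Ideal.span_mono (by simp))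
      refine indep_step (B := P ⧸ J) (B' := P ⧸ J') hpA hex hsurj hK
        (perf_quotient hP hp0 J (Ideal.radical_isRadical _)) (Ideal.Quotient.mk J a)
        (Ideal.Quotient.factorₐ A hle) (Ideal.Quotient.factor_surjective hle) (fun b => ?_) ih
      obtain ⟨b, rfl⟩ := Ideal.Quotient.mk_surjective b
      rw [Ideal.Quotient.factorₐ_apply_mk]
      show Ideal.Quotient.mk J' b = 0 ↔ _
      simp only [Ideal.Quotient.eq_zero_iff_mem, ← map_pow]
      have hins : Ideal.span ((insert a s : Finset P) : Set P) = Ideal.span {a} ⊔ Ideal.span (s : Set P) := by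
        rw [Finset.coe_insert, Ideal.span_insert]
      constructor
      · rintro ⟨k, hk⟩
        rw [hins] at hk
        obtain ⟨x, hx, y, hy, hxy⟩ := Submodule.mem_sup.mp hk
        refine ⟨k, ?_⟩
        rw [← hxy, map_add, Ideal.Quotient.eq_zero_iff_mem.mpr (Ideal.le_radical hy), add_zero]
        exact map_dvd _ (Ideal.mem_span_singleton.mp hx)
      · rintro ⟨k, c, hc⟩
        obtain ⟨c, rfl⟩ := Ideal.Quotient.mk_surjective c
        rw [← map_mul, Ideal.Quotient.eq] at hc
        have : b ^ k ∈ J' := by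
          rw [show b ^ k = (b ^ k - a * c) + a * c by ring]
          exact add_mem (hle hc) (Ideal.mul_mem_right _ _ (Ideal.le_radical (Ideal.subset_span (by simp))))
        exact (Ideal.radical_isRadical _) ⟨k, this⟩
  -- the union
  have hradker : ∀ (b : P) (k : ℕ), π (b ^ k) = 0 → π b = 0 := by
    intro b k hk
    rw [map_pow] at hk
    have hk' : (π b) ^ p ^ k = 0 := pow_eq_zero_of_le (Nat.lt_pow_self hp.out.one_lt).le hk
    clear hk
    induction k with
    | zero => simpa using hk'
    | succ k ih =>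
      refine ih (hB.injective ?_)
      simp only [zero_pow hp.out.ne_zero]
      rw [← pow_mul, ← pow_succ]
      exact hk'
  intro i z hz
  obtain ⟨y, rfl⟩ := LinearMap.rTensor_surjective (E (i + 1)) (g := π.toLinearMap) hπ z
  have hz' : LinearMap.rTensor (E i) π.toLinearMap (LinearMap.lTensor P (δ i) y) = 0 := by
    rw [← hz, ← LinearMap.comp_apply, ← LinearMap.comp_apply, LinearMap.rTensor_comp_lTensor,
      LinearMap.lTensor_comp_rTensor]
  obtain ⟨w0, hw0⟩ := (rTensor_exact (E i) (LinearMap.exact_subtype_ker_map π.toLinearMap) hπ _).mp hz'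
  have hw : ∀ w0 : LinearMap.ker π.toLinearMap ⊗[A] E i, ∃ s : Finset P, (∀ x ∈ s, π x = 0) ∧
      ∀ t : Finset P, s ⊆ t → LinearMap.rTensor (E i) (Ideal.Quotient.mkₐ A (Ideal.span (t : Set P)).radical).toLinearMap
        (LinearMap.rTensor (E i) (LinearMap.ker π.toLinearMap).subtype w0) = 0 := by
    intro w0
    induction w0 using TensorProduct.induction_on with
    | zero => exact ⟨∅, by simp, fun t _ => by simp⟩
    | tmul b e =>
      refine ⟨{b.1}, fun x hx => by rw [Finset.mem_singleton.mp hx]; exact b.2, fun t ht => ?_⟩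
      rw [LinearMap.rTensor_tmul, LinearMap.rTensor_tmul]
      have : Ideal.Quotient.mk (Ideal.span (t : Set P)).radical b.1 = 0 :=
        Ideal.Quotient.eq_zero_iff_mem.mpr (Ideal.le_radical (Ideal.subset_span (ht (Finset.mem_singleton_self _))))
      simp [this]
    | add a b ha hb =>
      obtain ⟨s, hs, hs'⟩ := ha
      obtain ⟨s', ht, ht'⟩ := hb
      refine ⟨s ∪ s', fun x hx => (Finset.mem_union.mp hx).elim (hs x) (ht x), fun t h => ?_⟩
      rw [map_add, map_add, hs' t (Finset.union_subset_left h), ht' t (Finset.union_subset_right h), add_zero]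
  obtain ⟨s, hs, hs'⟩ := hw w0
  let J := (Ideal.span (s : Set P)).radical
  let q := Ideal.Quotient.mkₐ A J
  have hq0 : LinearMap.lTensor (P ⧸ J) (δ i) (LinearMap.rTensor (E (i + 1)) q.toLinearMap y) = 0 := by
    rw [← LinearMap.comp_apply, LinearMap.lTensor_comp_rTensor, ← LinearMap.rTensor_comp_lTensor,
      LinearMap.comp_apply, ← hw0]
    exact hs' s (Finset.Subset.refl s)
  obtain ⟨v, hv⟩ := hfin s i _ hq0
  let ρ : (P ⧸ J) →ₐ[A] B := Ideal.Quotient.liftₐ J π fun a ha => by
    obtain ⟨k, hk⟩ := ha
    refine hradker a k ?_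
    have : Ideal.span (s : Set P) ≤ RingHom.ker π := Ideal.span_le.mpr hs
    exact this hk
  have hρ : ρ.toLinearMap ∘ₗ q.toLinearMap = π.toLinearMap := LinearMap.ext fun x => rfl
  refine ⟨LinearMap.rTensor (E (i + 1 + 1)) ρ.toLinearMap v, ?_⟩
  rw [← LinearMap.comp_apply, LinearMap.lTensor_comp_rTensor, ← LinearMap.rTensor_comp_lTensor,
    LinearMap.comp_apply, hv, ← LinearMap.comp_apply, ← LinearMap.rTensor_comp, hρ]

theorem exists_flat_cover (hpA : (p : A) = 0) (hA : Perf p A) [CharP A p] (B : Type u) [CommRing B] [Algebra A B]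
    (hB : Perf p B) :
    ∃ (P : Type u) (_ : CommRing P) (_ : Algebra A P), Perf p P ∧ Module.Flat A P ∧
      ∃ π : P →ₐ[A] B, Function.Surjective π := by
  classical
  rcases subsingleton_or_nontrivial B with hsub | hnt
  · exact ⟨A, inferInstance, inferInstance, hA, inferInstance, Algebra.ofId A B,
      fun b => ⟨0, Subsingleton.elim _ _⟩⟩
  haveI : CharP B p := (CharP.charP_iff_prime_eq_zero hp.out).mpr (natCast_eq_zero_of_algebra A hpA B)
  haveI : PerfectRing B p := ⟨hB⟩
  haveI : PerfectRing A p := ⟨hA⟩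
  let S := MvPolynomial B A
  let P := PerfectClosure S p
  letI : Algebra A P := ((PerfectClosure.of S p).comp (algebraMap A S)).toAlgebra
  let φ : S →+* B := (MvPolynomial.aeval (R := A) (id : B → B)).toRingHom
  let π₀ : P →+* B := PerfectClosure.lift S p B φ
  have hπof : ∀ s, π₀ (PerfectClosure.of S p s) = φ s := fun s => by
    have := RingHom.congr_fun ((PerfectClosure.lift S p B).left_inv φ) s
    exact this
  let π : P →ₐ[A] B := { π₀ with commutes' := fun a => (hπof _).trans (AlgHom.commutes (MvPolynomial.aeval (R := A) (id : B → B)) a) }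
  have hPperf : Perf p P := bijective_frobenius P p
  refine ⟨P, inferInstance, inferInstance, hPperf, ?_, π, fun b => ⟨PerfectClosure.of S p (MvPolynomial.X b), ?_⟩⟩
  swap
  · show π₀ _ = b
    rw [hπof]
    exact MvPolynomial.aeval_X id b
  rw [Module.Flat.iff_forall_isTrivialRelation]
  intro l a x hax
  -- all `x i` come from one stage
  have hrep : ∀ z : P, ∃ N, ∀ m, N ≤ m → ∃ s : S, z ^ p ^ m = PerfectClosure.of S p s := by
    intro z
    induction z using PerfectClosure.induction_on with
    | h q =>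
      obtain ⟨N, s⟩ := q
      refine ⟨N, fun m hm => ⟨s ^ p ^ (m - N), ?_⟩⟩
      have h0 : (PerfectClosure.mk S p (N, s)) ^ p ^ N = PerfectClosure.of S p s := by
        have := PerfectClosure.iterate_frobenius_mk (K := S) (p := p) N s
        rwa [iterate_frobenius] at this
      rw [show p ^ m = p ^ N * p ^ (m - N) by rw [← pow_add, Nat.add_sub_cancel' hm], pow_mul, h0, ← map_pow]
  choose N hN using fun i => hrep (x i)
  let m := ∑ i, N i
  choose y hy using fun i => hN i m (Finset.single_le_sum (fun j _ => Nat.zero_le _) (Finset.mem_univ i))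
  have hpowP : ∀ (k : ℕ) (u : Fin l → P), (∑ i, u i) ^ p ^ k = ∑ i, u i ^ p ^ k := fun k u => sum_pow_char_pow p k _ _
  have hrel : ∑ i, a i ^ p ^ m • y i = 0 := by
    have h1 : (∑ i, a i • x i) ^ p ^ m = 0 := by rw [hax, zero_pow (pow_ne_zero _ hp.out.ne_zero)]
    rw [hpowP] at h1
    simp only [smul_pow, hy] at h1
    have hof : Function.Injective (PerfectClosure.of S p) := by
      haveI : IsReduced S := by
        haveI : IsReduced A := ⟨fun a ⟨e, he⟩ => (bijective_iterateFrobenius A p e).injective (by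
          rw [iterateFrobenius_def, map_zero]
          exact pow_eq_zero_of_le (Nat.lt_pow_self hp.out.one_lt).le he)⟩
        infer_instance
      intro u v huv
      simpa using (PerfectClosure.eq_iff S p (0, u) (0, v)).mp huv
    refine hof ?_
    rw [map_sum, map_zero, ← h1]
    exact Finset.sum_congr rfl fun i _ => by rw [Algebra.smul_def, Algebra.smul_def, map_mul]; rfl
  obtain ⟨k, b, z, hb, hab⟩ := Module.Flat.iff_forall_isTrivialRelation.mp (inferInstance : Module.Flat A S) hrel
  obtain ⟨ra, hra⟩ : ∃ ra : A → A, ∀ a, ra a ^ p ^ m = a :=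
    ⟨Function.surjInv (bijective_iterateFrobenius A p m).surjective,
      fun a => Function.surjInv_eq (bijective_iterateFrobenius A p m).surjective a⟩
  obtain ⟨rz, hrz⟩ : ∃ rz : P → P, ∀ a, rz a ^ p ^ m = a :=
    ⟨Function.surjInv (bijective_iterateFrobenius P p m).surjective,
      fun a => Function.surjInv_eq (bijective_iterateFrobenius P p m).surjective a⟩
  refine ⟨k, fun i j => ra (b i j), fun j => rz (PerfectClosure.of S p (z j)), fun i => ?_, fun j => ?_⟩
  · refine (bijective_iterateFrobenius P p m).injective ?_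
    rw [iterateFrobenius_def, iterateFrobenius_def, sum_pow_char_pow, hy, hb i, map_sum]
    refine Finset.sum_congr rfl fun j _ => ?_
    rw [smul_pow, hra, hrz, Algebra.smul_def, Algebra.smul_def, map_mul]
    rfl
  · refine (bijective_iterateFrobenius A p m).injective ?_
    rw [iterateFrobenius_def, iterateFrobenius_def, sum_pow_char_pow, zero_pow (pow_ne_zero _ hp.out.ne_zero),
      ← hab j]
    refine Finset.sum_congr rfl fun i _ => ?_
    rw [mul_pow, hra]

theorem indep_of_perfect (hpA : (p : A) = 0) (hA : Perf p A) [CharP A p] (hex : ∀ i, Function.Exact (δ (i + 1)) (δ i))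
    (hsurj : Function.Surjective (δ 0)) (hK : ∀ i, Kills (A := A) p (E i)) (B : Type u) [CommRing B] [Algebra A B]
    (hB : Perf p B) : Indep δ B := by
  obtain ⟨P, _, _, hP, hflat, π, hπ⟩ := exists_flat_cover hpA hA B hB
  exact indep_quotient hpA hex hsurj hK hP hB π hπ (indep_of_flat hex P)

end Groth.Agent.H27Perf.TorIndep
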