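import Groth.Agent.H27Perf.TorIndep
import Mathlib

/-! # Tor vanishes between perfect algebras over a perfect ring -/

set_option autoImplicit false

noncomputable section

universe u

open CategoryTheory Limits MonoidalCategory

namespace Groth.Agent.H27Perf.TorPerfect

open TorIndep

/-- The terms of an augmented resolution. -/
def aug {A : Type u} [CommRing A] {M : ModuleCat.{u} A} (P : ProjectiveResolution M) : ℕ → ModuleCat.{u} A
  | 0 => M
  | k + 1 => P.complex.X k

/-- The maps of an augmented resolution. -/
def augd {A : Type u} [CommRing A] {M : ModuleCat.{u} A} (P : ProjectiveResolution M) :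
    ∀ j, (aug P (j + 1) : Type u) →ₗ[A] (aug P j : Type u)
  | 0 => (P.π.f 0).hom
  | k + 1 => (P.complex.d (k + 1) k).hom

theorem isZero_tor (p : ℕ) [Fact p.Prime] (A B C : Type u) [CommRing A] [CommRing B] [CommRing C]
    [CharP A p] [Algebra A B] [Algebra A C] (hA : Perf p A) (hB : Perf p B) (hC : Perf p C) (i : ℕ) :
    IsZero (((Tor (ModuleCat.{u} A) (i + 1)).obj (ModuleCat.of A B)).obj (ModuleCat.of A C)) := by
  let P := projectiveResolution (ModuleCat.of A C)
  let E := aug P
  let δ := augd P
  have hsurj : Function.Surjective (δ 0) := (ModuleCat.epi_iff_surjective _).mp inferInstance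
  have hex : ∀ j, Function.Exact (δ (j + 1)) (δ j) := fun j => match j with
    | 0 => (ShortComplex.ShortExact.moduleCat_exact_iff_function_exact _).mp P.exact₀
    | k + 1 => (ShortComplex.ShortExact.moduleCat_exact_iff_function_exact _).mp
        ((P.complex.exactAt_iff' (k + 2) (k + 1) k (by simp) (by simp)).mp (P.complex_exactAt_succ k))
  have hK : ∀ j, Kills (A := A) p (E j) := fun j => match j with
    | 0 => kills_of_perfect (CharP.cast_eq_zero A p) hA C hC
    | k + 1 => by
      haveI : Module.Projective A (P.complex.X k) := (P.complex.X k).projective_of_module_projective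
      haveI : Module.Flat A (P.complex.X k) := Module.Flat.of_projective
      exact kills_of_flat (A := A) (P.complex.X k)
  have h := indep_of_perfect (CharP.cast_eq_zero A p) hA hex hsurj hK B hB
  refine IsZero.of_iso ?_ (P.isoLeftDerivedObj ((tensoringLeft (ModuleCat.{u} A)).obj (ModuleCat.of A B)) (i + 1))
  refine (HomologicalComplex.exactAt_iff_isZero_homology _ _).mp ?_
  rw [HomologicalComplex.exactAt_iff' _ (i + 2) (i + 1) i (by simp) (by simp),
    ShortComplex.ShortExact.moduleCat_exact_iff_function_exact]
  intro z
  refine ⟨fun hz => h (i + 1) z hz, ?_⟩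
  rintro ⟨v, rfl⟩
  show LinearMap.lTensor B (δ (i + 1)) (LinearMap.lTensor B (δ (i + 1 + 1)) v) = 0
  rw [← LinearMap.comp_apply, ← LinearMap.lTensor_comp, (hex (i + 1)).linearMap_comp_eq_zero, LinearMap.lTensor_zero,
    LinearMap.zero_apply]

end Groth.Agent.H27Perf.TorPerfect
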