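import Groth.Agent.H27Perf.Props2
import Groth.Agent.H27Frob.Closure

/-!
# A universal homeomorphism of perfect rings is an isomorphism
-/

set_option autoImplicit false
universe u

open CategoryTheory AlgebraicGeometry Limits

namespace Groth.Agent.H27Perf

variable {p : ℕ} [hp : Fact p.Prime]

/-- Radiciel with integral: every residue class is, up to a denominator, in the image. -/
theorem exists_mul_sub_mem {A B : Type u} [CommRing A] [CommRing B] (f : A →+* B) (hA : PerfR p A)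
    (hint : f.IsIntegral)
    (hmono : ∀ (K : Type u) [Field K] (g₁ g₂ : B →+* K), g₁.comp f = g₂.comp f → g₁ = g₂)
    (P : Ideal B) [P.IsPrime] (c : B) :
    ∃ s ∉ P.comap f, ∃ a : A, f s * c - f a ∈ P := by
  algebraize [f]
  let q : Ideal A := P.comap f
  have : q.IsPrime := Ideal.IsPrime.comap f
  let K₀ := FractionRing (A ⧸ q)
  let L := FractionRing (B ⧸ P)
  let j : A ⧸ q →+* B ⧸ P := Ideal.quotientMap P f le_rfl
  have hj : Function.Injective j := Ideal.quotientMap_injective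
  let h : A ⧸ q →+* L := (algebraMap (B ⧸ P) L).comp j
  have hh : Function.Injective h := (IsFractionRing.injective (B ⧸ P) L).comp hj
  let φ : K₀ →+* L := IsFractionRing.lift hh
  let _ : Algebra K₀ L := φ.toAlgebra
  let r : B →+* L := (algebraMap (B ⧸ P) L).comp (Ideal.Quotient.mk P)
  have hr : ∀ a : A, r (f a) = φ (algebraMap (A ⧸ q) K₀ (Ideal.Quotient.mk q a)) := fun a => by
    rw [IsFractionRing.lift_algebraMap hh]
    rfl
  -- `K₀` is perfect
  have hK0 : (p : K₀) = 0 :=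
    natCast_map ((algebraMap (A ⧸ q) K₀).comp (Ideal.Quotient.mk q)) hA.1
  have : CharP K₀ p := (CharP.charP_iff_prime_eq_zero hp.out).2 hK0
  have : ExpChar K₀ p := .prime hp.out
  have hperf : PerfectRing K₀ p := PerfectRing.ofSurjective _ p fun x => by
    obtain ⟨a, s, hs, rfl⟩ := IsFractionRing.div_surjective (A := A ⧸ q) x
    obtain ⟨a, rfl⟩ := Ideal.Quotient.mk_surjective a
    obtain ⟨s, rfl⟩ := Ideal.Quotient.mk_surjective s
    obtain ⟨a', ha'⟩ := hA.2.2 a
    obtain ⟨s', hs'⟩ := hA.2.2 s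
    refine ⟨algebraMap (A ⧸ q) K₀ (Ideal.Quotient.mk q a') /
      algebraMap (A ⧸ q) K₀ (Ideal.Quotient.mk q s'), ?_⟩
    simp only [frobenius_def, div_pow, ← map_pow, ha', hs']
  have : PerfectField K₀ := PerfectRing.toPerfectField K₀ p
  -- `L` is algebraic over `K₀`
  have hintr : ∀ b : B, IsIntegral K₀ (r b) := fun b => by
    obtain ⟨Q, hQ, hQb⟩ := hint b
    refine ⟨Q.map ((algebraMap (A ⧸ q) K₀).comp (Ideal.Quotient.mk q)), hQ.map _, ?_⟩
    rw [Polynomial.eval₂_map]
    have : (algebraMap K₀ L).comp ((algebraMap (A ⧸ q) K₀).comp (Ideal.Quotient.mk q)) = r.comp f :=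
      RingHom.ext fun a => (hr a).symm
    rw [this, ← Polynomial.hom_eval₂, hQb, map_zero]
  have halg : Algebra.IsAlgebraic K₀ L := ⟨fun x => by
    obtain ⟨b, d, -, rfl⟩ := IsFractionRing.div_surjective (A := B ⧸ P) x
    obtain ⟨b, rfl⟩ := Ideal.Quotient.mk_surjective b
    obtain ⟨d, rfl⟩ := Ideal.Quotient.mk_surjective d
    rw [div_eq_mul_inv]
    exact (hintr b).isAlgebraic.mul (hintr d).isAlgebraic.inv⟩
  have hsub : Subsingleton (Field.Emb K₀ L) := ⟨fun σ τ => by
    refine AlgHom.coe_ringHom_injective (IsLocalization.ringHom_ext (nonZeroDivisors (B ⧸ P)) ?_)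
    refine Ideal.Quotient.ringHom_ext (hmono _ _ _ (RingHom.ext fun a => ?_))
    change σ (r (f a)) = τ (r (f a))
    rw [hr]
    exact (σ.commutes _).trans (τ.commutes _).symm⟩
  have := (isPurelyInseparable_iff_subsingleton_emb K₀ L).mpr hsub
  obtain ⟨z, hz⟩ := IsPurelyInseparable.inseparable' (F := K₀) (r c) (Algebra.IsSeparable.isSeparable K₀ _)
  obtain ⟨a, s, hs, rfl⟩ := IsFractionRing.div_surjective (A := A ⧸ q) z
  obtain ⟨a, rfl⟩ := Ideal.Quotient.mk_surjective a
  obtain ⟨s, rfl⟩ := Ideal.Quotient.mk_surjective s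
  have hsq : s ∉ q := fun hsq => nonZeroDivisors.ne_zero hs (Ideal.Quotient.eq_zero_iff_mem.mpr hsq)
  refine ⟨s, hsq, a, Ideal.Quotient.eq_zero_iff_mem.mp (IsFractionRing.injective (B ⧸ P) L ?_)⟩
  change r (f s * c - f a) = _
  have hz' : r (f a) / r (f s) = r c := by
    rw [hr, hr, ← map_div₀]
    exact hz
  have hne : r (f s) ≠ 0 := fun h0 => by
    rw [hr, map_eq_zero, IsFractionRing.to_map_eq_zero_iff, Ideal.Quotient.eq_zero_iff_mem] at h0
    exact hsq h0
  rw [map_sub, map_mul, ← hz', mul_div_cancel₀ _ hne, sub_self, map_zero]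

/-- An injective integral radiciel map of perfect rings is bijective. -/
theorem bijective_of_integral_radiciel {A B : Type u} [CommRing A] [CommRing B] (f : A →+* B)
    (hA : PerfR p A) (hB : PerfR p B) (hinj : Function.Injective f) (hint : f.IsIntegral)
    (hspec : Function.Injective (PrimeSpectrum.comap f))
    (hmono : ∀ (K : Type u) [Field K] (g₁ g₂ : B →+* K), g₁.comp f = g₂.comp f → g₁ = g₂) :
    Function.Bijective f := by
  refine ⟨hinj, fun b => ?_⟩
  algebraize [f]
  let C : Subalgebra A B := Algebra.adjoin A {b}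
  have hC : C.toSubmodule.FG := (Algebra.IsIntegral.isIntegral (R := A) b).fg_adjoin_singleton
  let I : Ideal A :=
    { carrier := {a | ∀ x ∈ C, ∃ a', f a' = f a * x}
      zero_mem' := fun x _ => ⟨0, by simp⟩
      add_mem' := fun {a a'} ha ha' x hx => by
        obtain ⟨u, hu⟩ := ha x hx
        obtain ⟨v, hv⟩ := ha' x hx
        exact ⟨u + v, by rw [map_add, map_add, hu, hv, add_mul]⟩
      smul_mem' := fun c a ha x hx => by
        obtain ⟨u, hu⟩ := ha x hx
        exact ⟨c * u, by rw [smul_eq_mul, map_mul, map_mul, hu, mul_assoc]⟩ }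
  -- radical
  have hrad : ∀ (n : ℕ) (a : A), a ^ p ^ n ∈ I → a ∈ I := fun n a ha x hx => by
    obtain ⟨u, hu⟩ := ha _ (C.pow_mem hx (p ^ n))
    obtain ⟨v, rfl⟩ := hA.exists_root u n
    exact ⟨v, hB.ext_of_pow (n := n) (by rw [mul_pow, ← map_pow, ← map_pow, hu])⟩
  have habs : ∀ a ∈ I, ∀ x ∈ C, ∀ a', f a' = f a * x → a' ∈ I := fun a ha x hx a' e y hy => by
    obtain ⟨u, hu⟩ := ha _ (C.mul_mem hx hy)
    exact ⟨u, by rw [hu, e, mul_assoc]⟩
  suffices hI : I = ⊤ by
    obtain ⟨a, ha⟩ := ((hI ▸ Submodule.mem_top : (1 : A) ∈ I)) b (Algebra.self_mem_adjoin_singleton A b)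
    exact ⟨a, by rw [ha, map_one, one_mul]⟩
  by_contra hI
  obtain ⟨m, hm, hIm⟩ := Ideal.exists_le_maximal I hI
  obtain ⟨q, hq, -⟩ := Ideal.exists_minimalPrimes_le (J := m) hIm
  have : q.IsPrime := hq.1.1
  obtain ⟨P, -, hP, hPq⟩ := Ideal.exists_ideal_over_prime_of_isIntegral (S := B) q ⊥ (by
    rw [Ideal.comap_bot_of_injective (algebraMap A B) hinj]; exact bot_le)
  -- elements of `C` in `P` are killed modulo `I`
  have key : ∀ x ∈ C, x ∈ P → ∃ s ∉ q, ∃ a' ∈ I, f a' = f s * x := by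
    intro x hx hxP
    let IC : Ideal C :=
      { carrier := {y | ∃ a' ∈ I, f a' = y.1}
        zero_mem' := ⟨0, I.zero_mem, by simp⟩
        add_mem' := fun {y z} ⟨u, hu, eu⟩ ⟨v, hv, ev⟩ => ⟨u + v, I.add_mem hu hv, by simp [eu, ev]⟩
        smul_mem' := fun c y ⟨u, hu, eu⟩ => by
          obtain ⟨v, hv⟩ := hu c.1 c.2
          exact ⟨v, habs u hu c.1 c.2 v hv, by rw [hv, eu, smul_eq_mul, Subalgebra.coe_mul, mul_comm]⟩ }
    let S : Submonoid C :=
      { carrier := {y | ∃ s ∉ q, ∃ k : ℕ, y.1 = f s * x ^ k}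
        one_mem' := ⟨1, fun h => Ideal.IsPrime.ne_top ‹_› (q.eq_top_of_isUnit_mem h isUnit_one), 0, by simp⟩
        mul_mem' := fun {y z} ⟨s, hs, k, e⟩ ⟨s', hs', k', e'⟩ =>
          ⟨s * s', fun h => (Ideal.IsPrime.mem_or_mem ‹_› h).elim hs hs', k + k', by
            rw [Subalgebra.coe_mul, e, e', map_mul, pow_add]; ring⟩ }
    by_cases hd : Disjoint (IC : Set C) (S : Set C)
    · exfalso
      obtain ⟨Q, hQ, hICQ, hQS⟩ := Ideal.exists_le_prime_disjoint IC S hd
      have : Algebra.IsIntegral C B := ⟨fun y => (Algebra.IsIntegral.isIntegral (R := A) y).tower_top⟩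
      obtain ⟨P', -, hP', hP'Q⟩ := Ideal.exists_ideal_over_prime_of_isIntegral (S := B) Q ⊥ (by
        rw [Ideal.comap_bot_of_injective _ Subtype.val_injective]; exact bot_le)
      have hle : P'.comap f ≤ q := fun a ha => by
        by_contra haq
        have hd' := Set.disjoint_left.mp hQS
        refine hd' (a := (⟨f a, C.algebraMap_mem a⟩ : C)) ?_
          (show ∃ s ∉ q, ∃ k : ℕ, f a = f s * x ^ k from ⟨a, haq, 0, by simp⟩)
        rw [← hP'Q]
        exact ha
      have hge : I ≤ P'.comap f := fun a ha => by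
        have : (⟨f a, C.algebraMap_mem a⟩ : C) ∈ Q := hICQ ⟨a, ha, rfl⟩
        rw [← hP'Q] at this
        exact this
      have hprime : (P'.comap f).IsPrime := Ideal.IsPrime.comap f
      have heq : P'.comap f = q := le_antisymm hle (hq.2 ⟨hprime, hge⟩ hle)
      have hPP : P' = P := congrArg PrimeSpectrum.asIdeal
        (hspec (a₁ := ⟨P', hP'⟩) (a₂ := ⟨P, hP⟩) (PrimeSpectrum.ext (heq.trans hPq.symm)))
      have hd' := Set.disjoint_left.mp hQS
      refine hd' (a := (⟨x, hx⟩ : C)) ?_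
        (show ∃ s ∉ q, ∃ k : ℕ, x = f s * x ^ k from
          ⟨1, fun h => Ideal.IsPrime.ne_top ‹_› (q.eq_top_of_isUnit_mem h isUnit_one), 1, by simp⟩)
      rw [← hP'Q]
      exact hPP.symm ▸ hxP
    · obtain ⟨y, ⟨a', ha', e⟩, s, hs, k, e'⟩ := Set.not_disjoint_iff.mp hd
      obtain ⟨n, hn⟩ : ∃ n, k ≤ p ^ n := ⟨k, (Nat.lt_pow_self hp.out.one_lt).le⟩
      obtain ⟨u, hu⟩ : ∃ u, f u = f a' * (f (s ^ (p ^ n - 1)) * x ^ (p ^ n - k)) :=
        ha' _ (C.mul_mem (C.algebraMap_mem _) (C.pow_mem hx _))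
      obtain ⟨v, hv⟩ := hA.exists_root u n
      refine ⟨s, hs, v, hrad n v ?_, hB.ext_of_pow (n := n) ?_⟩
      · rw [hv]
        exact habs a' ha' _ (C.mul_mem (C.algebraMap_mem _) (C.pow_mem hx _)) u hu
      · rw [← map_pow, hv, hu, e, e', map_pow, mul_pow]
        calc f s * x ^ k * (f s ^ (p ^ n - 1) * x ^ (p ^ n - k))
            = f s ^ (1 + (p ^ n - 1)) * x ^ (k + (p ^ n - k)) := by ring
          _ = f s ^ p ^ n * x ^ p ^ n := by
            rw [Nat.add_sub_cancel' (Nat.one_le_pow _ _ hp.out.pos), Nat.add_sub_cancel' hn]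
  have key2 : ∀ c ∈ C, ∃ s ∉ q, ∃ a', f a' = f s * c := by
    intro c hc
    obtain ⟨s, hs, a, hmem⟩ := exists_mul_sub_mem f hA hint hmono P c
    obtain ⟨t, ht, a', -, e⟩ := key _ (C.sub_mem (C.mul_mem (C.algebraMap_mem s) hc) (C.algebraMap_mem a)) hmem
    refine ⟨t * s, fun h => (Ideal.IsPrime.mem_or_mem ‹_› h).elim ht (hPq ▸ hs), a' + t * a, ?_⟩
    rw [map_add, e, map_mul, map_mul]
    change f t * (f s * c - f a) + f t * f a = _
    ring
  obtain ⟨G, hG⟩ := hC
  have hGC : ∀ g ∈ G, g ∈ C := fun g hg => by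
    rw [← Subalgebra.mem_toSubmodule, ← hG]
    exact Submodule.subset_span hg
  choose! s hs a ha using key2
  refine (Ideal.IsPrime.prod_mem_iff (s := G) (x := s) (p := q)).not.mpr
    (fun ⟨g, hg, hgs⟩ => hs g (hGC g hg) hgs) (hq.1.2 ?_)
  intro x hx
  rw [← Subalgebra.mem_toSubmodule, ← hG] at hx
  induction hx using Submodule.span_induction with
  | mem g hg =>
    classical
    exact ⟨(∏ i ∈ G.erase g, s i) * a g, by
      rw [map_mul, ha g (hGC g hg), ← Finset.mul_prod_erase G s hg, map_mul]; ring⟩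
  | zero => exact ⟨0, by simp⟩
  | add x y _ _ hx hy =>
    obtain ⟨u, hu⟩ := hx
    obtain ⟨v, hv⟩ := hy
    exact ⟨u + v, by rw [map_add, hu, hv, mul_add]⟩
  | smul c x _ hx =>
    obtain ⟨u, hu⟩ := hx
    exact ⟨c * u, by rw [map_mul, hu, Algebra.smul_def]; change _ = _ * (f c * x); ring⟩

theorem bijective_of_isUnivHomeo {A B : CommRingCat.{u}} (f : A ⟶ B) (hA : PerfR p A) (hB : PerfR p B)
    (h : FlatMor.IsUnivHomeo (Spec.map f)) : Function.Bijective f.hom := by
  have hc := universallyClosed_of_isUnivHomeo h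
  have hu := universallyInjective_of_isUnivHomeo h
  have hs := surjective_of_isUnivHomeo h
  have hint : f.hom.IsIntegral :=
    IsIntegralHom.SpecMap_iff.mp (IsIntegralHom.iff_universallyClosed_and_isAffineHom.mpr ⟨hc, inferInstance⟩)
  have hinj : Function.Injective f.hom := by
    rw [injective_iff_map_eq_zero]
    intro a ha
    have : IsReduced A := hA.isReduced
    refine IsNilpotent.eq_zero ?_
    rw [← mem_nilradical, nilradical_eq_sInf, Ideal.mem_sInf]
    intro q hq
    obtain ⟨P, hP⟩ := (Spec.map f).surjective (⟨q, hq⟩ : PrimeSpectrum A)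
    have hP' : (PrimeSpectrum.comap f.hom P).asIdeal = q := congrArg PrimeSpectrum.asIdeal hP
    rw [← hP']
    change f.hom a ∈ P.asIdeal
    rw [ha]
    exact P.asIdeal.zero_mem
  refine bijective_of_integral_radiciel f.hom hA hB hinj hint ((Spec.map f).injective) ?_
  intro K _ g₁ g₂ hg
  have h2 : ∀ (K : Type u) [Field K],
      Function.Injective (fun g : Spec (.of K) ⟶ Spec B ↦ g ≫ Spec.map f) :=
    ((tfae_universallyInjective (Spec.map f)).out 0 1).mp hu
  have h3 : Spec.map (CommRingCat.ofHom g₁) = Spec.map (CommRingCat.ofHom g₂) :=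
    h2 K (by
      simp only [← Spec.map_comp]
      exact congrArg Spec.map (CommRingCat.hom_ext hg))
  exact congrArg CommRingCat.Hom.hom (Spec.map_injective h3)

end Groth.Agent.H27Perf
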