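import Groth.Agent.H27Perf.UH
import Groth.Prelude.Def_W4c1perfhdescPerf

/-!
# Universal homeomorphisms between perfect schemes
-/

set_option autoImplicit false
universe u

open CategoryTheory AlgebraicGeometry Limits

namespace Groth.Agent.H27Perf

variable {p : ℕ} [hp : Fact p.Prime]

theorem isUnivHomeo_SpecMap_of_pRad {A B : CommRingCat.{u}} (f : A ⟶ B) (h0 : (p : A) = 0)
    (h : PRad p f.hom) : FlatMor.IsUnivHomeo (Spec.map f) := by
  have h1 : IsIntegralHom (Spec.map f) := IsIntegralHom.SpecMap_iff.mpr h.isIntegral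
  have h2 : Surjective (Spec.map f) := ⟨h.isHomeomorph_comap.surjective⟩
  have h3 : UniversallyInjective (Spec.map f) := by
    refine ((tfae_universallyInjective (Spec.map f)).out 0 1).mpr fun K instK g₁ g₂ e => ?_
    let _ : Field K := instK
    obtain ⟨φ₁, rfl⟩ := Spec.map_surjective g₁
    obtain ⟨φ₂, rfl⟩ := Spec.map_surjective g₂
    simp only [← Spec.map_comp] at e
    have e' : φ₁.hom.comp f.hom = φ₂.hom.comp f.hom :=
      congrArg CommRingCat.Hom.hom (Spec.map_injective e)
    congr 1
    refine CommRingCat.hom_ext (RingHom.ext fun b => ?_)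
    obtain ⟨n, r, hr⟩ := h.pow_mem b
    have hK : (p : K) = 0 := natCast_map (φ₁.hom.comp f.hom) h0
    have : (φ₁.hom b - φ₂.hom b) ^ p ^ n = 0 := by
      rw [sub_pow' hK, ← map_pow, ← map_pow, ← hr]
      exact sub_eq_zero.mpr (RingHom.congr_fun e' r)
    exact sub_eq_zero.mp (pow_eq_zero_iff (pow_ne_zero _ hp.out.ne_zero) |>.mp this)
  exact isUnivHomeo_of (Spec.map f)

theorem isUnivHomeo_Spec_iff_bijective {A B A' B' : Type u} [CommRing A] [CommRing B] [CommRing A']
    [CommRing B'] (φ : A →+* B) (i : A →+* A') (j : B →+* B') (φ' : A' →+* B')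
    (hA : (p : A) = 0) (hi : PRad p i) (hj : PRad p j) (hA' : PerfR p A') (hB' : PerfR p B')
    (w : φ'.comp i = j.comp φ) :
    FlatMor.IsUnivHomeo (Spec.map (CommRingCat.ofHom φ)) ↔ Function.Bijective φ' := by
  let F := Spec.map (CommRingCat.ofHom φ)
  let F' := Spec.map (CommRingCat.ofHom φ')
  let I := Spec.map (CommRingCat.ofHom i)
  let J := Spec.map (CommRingCat.ofHom j)
  have hI := isUnivHomeo_SpecMap_of_pRad (CommRingCat.ofHom i) hA hi
  have hJ := isUnivHomeo_SpecMap_of_pRad (CommRingCat.ofHom j) (natCast_map φ hA) hj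
  have := universallyClosed_of_isUnivHomeo hI
  have := universallyInjective_of_isUnivHomeo hI
  have := surjective_of_isUnivHomeo hI
  have := universallyClosed_of_isUnivHomeo hJ
  have := universallyInjective_of_isUnivHomeo hJ
  have := surjective_of_isUnivHomeo hJ
  have w' : F' ≫ I = J ≫ F := by
    simp only [F, F', I, J, ← Spec.map_comp, ← CommRingCat.ofHom_comp, w]
  constructor
  · intro h
    have := universallyClosed_of_isUnivHomeo h
    have := universallyInjective_of_isUnivHomeo h
    have := surjective_of_isUnivHomeo h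
    have h1 : UniversallyClosed (F' ≫ I) := w' ▸ inferInstance
    have h2 : UniversallyInjective (F' ≫ I) := w' ▸ MorphismProperty.comp_mem _ _ _ ‹_› ‹_›
    have := UniversallyClosed.of_comp_of_isSeparated F' I
    have := universallyInjective_of_comp F' I
    have : Surjective F' := ⟨fun y => by
      obtain ⟨x, hx⟩ := (J ≫ F).surjective (I y)
      exact ⟨x, I.injective (by rw [← Scheme.Hom.comp_apply, w', hx])⟩⟩
    exact bijective_of_isUnivHomeo (CommRingCat.ofHom φ') hA' hB' (isUnivHomeo_of F')
  · intro h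
    have : IsIso (CommRingCat.ofHom φ') := (ConcreteCategory.isIso_iff_bijective _).mpr h
    have : IsIso F' := inferInstanceAs (IsIso (Spec.map _))
    have h1 : UniversallyClosed (J ≫ F) := w' ▸ inferInstance
    have h2 : UniversallyInjective (J ≫ F) := w' ▸ MorphismProperty.comp_mem _ _ _
      (inferInstance : UniversallyInjective F') ‹UniversallyInjective I›
    have h3 : Surjective (J ≫ F) := w' ▸ inferInstance
    have := UniversallyClosed.of_comp_surjective J F
    have := universallyInjective_of_comp_surjective J F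
    have := Surjective.of_comp J F
    exact isUnivHomeo_of F

theorem isIso_of_isUnivHomeo_of_isPerfect {X Y : Scheme.{u}} (f : X ⟶ Y)
    (hX : PerfSch.IsPerfect p X) (hY : PerfSch.IsPerfect p Y) (hf : FlatMor.IsUnivHomeo f) :
    IsIso f := by
  have := universallyClosed_of_isUnivHomeo hf
  have := universallyInjective_of_isUnivHomeo hf
  have := surjective_of_isUnivHomeo hf
  have hh : IsHomeomorph f := hf _ _ _ IsPullback.of_id_snd
  have : IsAffineHom f := isAffineHom_of_isInducing f hh.isEmbedding.isInducing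
    (by rw [hh.surjective.range_eq]; exact isClosed_univ)
  refine IsZariskiLocalAtTarget.of_iSup_eq_top (P := MorphismProperty.isomorphisms Scheme)
    (fun U : Y.affineOpens => U.1) (iSup_affineOpens_eq_top Y) fun U => ?_
  refine MorphismProperty.isomorphisms.iff _ |>.mpr ?_
  rw [isIso_morphismRestrict_iff_isIso_app f U.2, ConcreteCategory.isIso_iff_bijective]
  have hV : IsAffineOpen (f ⁻¹ᵁ U.1) := U.2.preimage f
  have h1 : UniversallyClosed (f ∣_ U.1) := IsZariskiLocalAtTarget.restrict ‹_› U.1
  have h2 : UniversallyInjective (f ∣_ U.1) := IsZariskiLocalAtTarget.restrict ‹_› U.1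
  have h3 : Surjective (f ∣_ U.1) := IsZariskiLocalAtTarget.restrict ‹_› U.1
  rw [← Scheme.Hom.resLE_eq_morphismRestrict] at h1 h2 h3
  rw [iff_of_resLE (P := @UniversallyClosed) U.2 hV] at h1
  rw [iff_of_resLE (P := @UniversallyInjective) U.2 hV] at h2
  rw [iff_of_resLE (P := @Surjective) U.2 hV] at h3
  rw [Scheme.Hom.app_eq_appLE]
  exact bijective_of_isUnivHomeo _ (hY U.1) (hX _) (isUnivHomeo_of _)

end Groth.Agent.H27Perf
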